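import Cfsg.Agent.LieCharP.Basic
import Cfsg.Agent.BlockPairs.PIndex
import Cfsg.Agent.BlockPairs.Correspondence
import Cfsg.Agent.BlockPairs.PairBridge
import Cfsg.Agent.BlockPairs.ResField
import Cfsg.Agent.S0908

/-!
# Blocks of groups with all `p`-locals of characteristic `p`

A block then has defect zero or full defect: a defect group `D ≠ 1` equals `O_p(N(D))`, so it
contains its centraliser, and the defect class is then the class of the identity.
-/

set_option autoImplicit false
set_option linter.style.haveILetI false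

namespace CfsgLib.LieCharP

open CfsgLib.BlockPairs

variable {p : ℕ} [Fact p.Prime] {G : Type*} [Group G] [Finite G]

/-- In a group with all `p`-locals of characteristic `p` every `p`-block has defect `0` or full defect. -/
theorem blockDefect_of_localCharP (h : LocalCharP p G) (M : Ideal Cfsg.AlgInt)
    (hM : Cfsg.IsPModular p M) (B : Set (Cfsg.IrrCharacter G)) (hB : Cfsg.IsPBlock M B) :
    Cfsg.blockDefect p B = 0 ∨ Cfsg.blockDefect p B = (Nat.card G).factorization p := by
  haveI := hM.2.1.isPrime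
  haveI := Fintype.ofFinite G
  haveI : CharP (CfsgLib.Blocks.Res M) p := CfsgLib.Blocks.charP_res hM
  haveI : IsAlgClosed (CfsgLib.Blocks.Res M) := isAlgClosed_res hM
  obtain ⟨g, hg⟩ := CfsgLib.Blocks.exists_isDefectClass hB
  obtain ⟨S⟩ : Nonempty (Sylow p (Subgroup.centralizer ({g} : Set G))) := inferInstance
  set C := Subgroup.centralizer ({g} : Set G) with hC
  set D := (S : Subgroup C).map C.subtype with hD
  have hDdef : Cfsg.IsDefectGroup p M B D := ⟨g, hg, S, rfl⟩
  have hcard := Cfsg.Agent.S0908.result p M hM B hB D hDdef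
  have hDp : IsPGroup p D := S.2.map _
  rcases eq_or_ne D ⊥ with hbot | hne
  · left
    rw [hbot, Subgroup.card_bot] at hcard
    exact (Nat.pow_eq_one.1 hcard.symm).resolve_left (Fact.out : p.Prime).ne_one
  right
  -- `O_p(N(D)) = D`
  have hd := (isDefectGroup_gblk_iff hB D).1 hDdef
  obtain ⟨hbr, -⟩ := isBlock_br_of_defect (isBlock_gblk hB) hd
  set N := Subgroup.normalizer (D : Set G) with hN
  rw [top_inf_eq] at hbr
  set R := (Cfsg.pCore p ↥N).map N.subtype with hR
  have hDN : D ≤ N := Subgroup.le_normalizer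
  have hcore : IsPGroup p (Cfsg.pCore p ↥N) := CfsgLib.PLocal.isPGroup_pCore p ↥N
  have hRp : IsPGroup p R := hcore.map _
  have hRN : R ≤ N := Subgroup.map_subtype_le _
  haveI : (D.subgroupOf N).Normal := (Subgroup.normal_subgroupOf_iff_le_normalizer hDN).2 le_rfl
  have hDcore : D.subgroupOf N ≤ Cfsg.pCore p ↥N :=
    CfsgLib.PLocal.le_pCore (hDp.comap_of_injective _ N.subtype_injective)
  have hDR : D ≤ R := fun d hd' => ⟨⟨d, hDN hd'⟩, hDcore hd', rfl⟩
  have hNR : N ≤ Subgroup.normalizer (R : Set G) := by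
    intro x hx
    refine Subgroup.mem_normalizer_iff.2 fun y => ⟨?_, ?_⟩
    · rintro ⟨z, hz, rfl⟩
      exact ⟨⟨x, hx⟩ * z * ⟨x, hx⟩⁻¹, Subgroup.Normal.conj_mem inferInstance z hz _, rfl⟩
    · rintro ⟨z, hz, hzy⟩
      refine ⟨(⟨x, hx⟩ : N)⁻¹ * z * ⟨x, hx⟩, Subgroup.Normal.conj_mem' inferInstance z hz _, ?_⟩
      simp only [map_mul, map_inv, hzy]
      show x⁻¹ * (x * y * x⁻¹) * x = y
      group
  have hRne : br R (gblk M B) ≠ 0 := by
    intro h0
    apply hbr.ne_zero
    refine eq_zero_of_br_eq_zero hRp hNR hbr.supp (hbr.fixed.mono hRN) hbr.idem ?_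
    rw [br_br_of_le hDR, h0]
  have hRD : R = D := by
    refine (Subgroup.eq_of_le_of_card_ge hDR ?_).symm
    exact hd.card_le le_top hRp hRne
  -- the defect class is trivial
  have hgC : g ∈ Subgroup.centralizer (D : Set G) := by
    refine Subgroup.mem_centralizer_iff.2 fun u hu => ?_
    obtain ⟨s, -, rfl⟩ := hu
    exact Subgroup.mem_centralizer_singleton_iff.1 s.2
  have hgN : g ∈ N := Subgroup.centralizer_le_normalizer _ hgC
  have hgcore : (⟨g, hgN⟩ : N) ∈ Cfsg.pCore p ↥N := by
    refine h D hDp hne (Subgroup.mem_centralizer_iff.2 fun y hy => Subtype.ext ?_)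
    exact Subgroup.mem_centralizer_iff.1 hgC y (hRD.le ⟨y, hy, rfl⟩)
  have hg1 : g = 1 := by
    by_contra hg1
    obtain ⟨k, hk⟩ := IsPGroup.iff_orderOf.1 hcore ⟨_, hgcore⟩
    rw [Subgroup.orderOf_mk, Subgroup.orderOf_mk] at hk
    have hdvd : p ∣ orderOf g := by
      rw [hk]
      refine dvd_pow_self p fun h0 => hg1 ?_
      rw [h0, pow_zero, orderOf_eq_one_iff] at hk
      exact hk
    have hco : (gblk M B).coeff g ≠ 0 :=
      ((isDefectClass_bridge (φ := MonoidHom.id G) Function.injective_id hB g).1 hg).1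
    exact hco ((isBlock_gblk hB).coeff_eq_zero_of_singular hM hdvd)
  subst hg1
  have hCtop : C = ⊤ := by
    rw [hC, eq_top_iff]
    exact fun x _ => Subgroup.mem_centralizer_singleton_iff.2 (by simp)
  have hsyl : Nat.card D = p ^ (Nat.card G).factorization p := by
    rw [hD, Subgroup.card_map_of_injective C.subtype_injective, S.card_eq_multiplicity,
      hCtop, Subgroup.card_top]
  exact Nat.pow_right_injective (Fact.out : p.Prime).two_le (hcard.symm.trans hsyl)

end CfsgLib.LieCharP
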