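import Cfsg.Agent.LieCharP.Basic
import Cfsg.Agent.LocalEven.StronglyPEmbedded

/-!
# `p'`-automorphisms fixing a Sylow subgroup pointwise

If all `p`-locals have characteristic `p`, the fixed points of such an automorphism contain the
normaliser of each of their nontrivial `p`-subgroups, so they are everything or strongly `p`-embedded.
-/

set_option autoImplicit false

namespace CfsgLib.LieCharP

open CfsgLib.CharP49 CfsgLib.LocalEven

variable {p : ℕ} [Fact p.Prime] {G : Type*} [Group G] [Finite G]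

/-- The fixed points of an automorphism. -/
def fixedOf (α : MulAut G) : Subgroup G where
  carrier := {x | α x = x}
  one_mem' := map_one α
  mul_mem' := fun {a b} (ha : α a = a) (hb : α b = b) => by show α (a * b) = a * b; rw [map_mul, ha, hb]
  inv_mem' := fun {a} (ha : α a = a) => by show α a⁻¹ = a⁻¹; rw [map_inv, ha]

theorem mem_fixedOf {α : MulAut G} {x : G} : x ∈ fixedOf α ↔ α x = x := Iff.rfl

theorem normalizer_le_fixedOf_step (h : LocalCharP p G) {α : MulAut G} (hα : ¬ p ∣ orderOf α)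
    {Q : Subgroup G} (hQ : IsPGroup p Q) (hne : Q ≠ ⊥) (hQM : Q ≤ fixedOf α)
    (hO : (Cfsg.pCore p ↥(Subgroup.normalizer (Q : Set G))).map
      (Subgroup.normalizer (Q : Set G)).subtype ≤ fixedOf α) :
    Subgroup.normalizer (Q : Set G) ≤ fixedOf α := by
  intro g hg
  set N := Subgroup.normalizer (Q : Set G) with hN
  have hαN : ∀ y ∈ N, α y ∈ N := by
    intro y hy
    refine Subgroup.mem_normalizer_fintype fun q hq => ?_
    have h1 := (Subgroup.mem_normalizer_iff.1 hy q).1 hq
    have h2 : α (y * q * y⁻¹) = y * q * y⁻¹ := hQM h1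
    rw [map_mul, map_mul, map_inv, hQM hq] at h2
    show α y * q * (α y)⁻¹ ∈ Q
    rw [h2]; exact h1
  have hzN : g⁻¹ * α g ∈ N := N.mul_mem (N.inv_mem hg) (hαN g hg)
  have hz : (⟨g⁻¹ * α g, hzN⟩ : N) ∈ Cfsg.pCore p N := by
    refine h Q hQ hne (Subgroup.mem_centralizer_iff.2 fun y hy => Subtype.ext ?_)
    have hy' : α (y : G) = y := hO ⟨y, hy, rfl⟩
    have hgy : g * (y : G) * g⁻¹ ∈ fixedOf α :=
      hO ⟨⟨g, hg⟩ * y * ⟨g, hg⟩⁻¹, Subgroup.Normal.conj_mem inferInstance y hy _, rfl⟩
    rw [mem_fixedOf, map_mul, map_mul, map_inv, hy'] at hgy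
    show (y : G) * (g⁻¹ * α g) = g⁻¹ * α g * y
    calc (y : G) * (g⁻¹ * α g) = g⁻¹ * (g * (y : G) * g⁻¹) * α g := by group
      _ = g⁻¹ * (α g * (y : G) * (α g)⁻¹) * α g := by rw [hgy]
      _ = g⁻¹ * α g * y := by group
  have hzfix : α (g⁻¹ * α g) = g⁻¹ * α g := hO ⟨_, hz, rfl⟩
  have hk : ∀ k : ℕ, (α ^ k) g = g * (g⁻¹ * α g) ^ k := by
    intro k
    induction k with
    | zero => simp
    | succ k ih =>
      rw [pow_succ' α, MulAut.mul_apply, ih, map_mul, map_pow, hzfix, pow_succ' (g⁻¹ * α g), ← mul_assoc,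
        mul_inv_cancel_left]
  have h1 := hk (orderOf α)
  rw [pow_orderOf_eq_one, MulAut.one_apply, left_eq_mul] at h1
  obtain ⟨k, hpk⟩ := IsPGroup.iff_orderOf.1 (CfsgLib.PLocal.isPGroup_pCore p ↥N) ⟨_, hz⟩
  rw [Subgroup.orderOf_mk, Subgroup.orderOf_mk] at hpk
  have hd : orderOf (g⁻¹ * α g) ∣ orderOf α := orderOf_dvd_of_pow_eq_one h1
  rw [hpk] at hd
  have hk0 : k = 0 := by
    by_contra hk0
    exact hα ((dvd_pow_self p hk0).trans hd)
  rw [hk0, pow_zero, orderOf_eq_one_iff, inv_mul_eq_one] at hpk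
  exact hpk.symm

/-- All normalisers of nontrivial `p`-subgroups of fixed points are fixed. -/
theorem normalizersLE_fixedOf (h : LocalCharP p G) {α : MulAut G} (hα : ¬ p ∣ orderOf α)
    (U : Sylow p G) (hfix : ∀ x ∈ (U : Subgroup G), α x = x) : NormalizersLE p (fixedOf α) := by
  suffices ∀ n : ℕ, ∀ Q : Subgroup G, Q ≤ fixedOf α → IsPGroup p Q → Q ≠ ⊥ →
      Nat.card G ≤ Nat.card Q + n → Subgroup.normalizer (Q : Set G) ≤ fixedOf α from
    fun Q hQM hQ hne => this (Nat.card G) Q hQM hQ hne (Nat.le_add_left _ _)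
  intro n
  induction n with
  | zero =>
    intro Q hQM _ _ hn
    have : Q = ⊤ := Subgroup.eq_top_of_le_card Q (by simpa using hn)
    exact fun g _ => hQM (this ▸ Subgroup.mem_top g)
  | succ n ih =>
    intro Q hQM hQ hne hn
    set N := Subgroup.normalizer (Q : Set G) with hN
    have hQN : Q ≤ N := Subgroup.le_normalizer
    -- a maximal `p`-subgroup between `Q` and `N ⊓ M`
    obtain ⟨P, ⟨hP, hQP, hPNM⟩, hmax⟩ := (Set.toFinite
      {P : Subgroup G | IsPGroup p P ∧ Q ≤ P ∧ P ≤ N ⊓ fixedOf α}).exists_maximalFor id _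
        ⟨Q, hQ, le_rfl, le_inf hQN hQM⟩
    have hgrow : ∀ {A B : Subgroup G}, A < B → IsPGroup p B →
        ∃ y ∈ B, y ∉ A ∧ y ∈ Subgroup.normalizer (A : Set G) := by
      intro A B hAB hB
      haveI : Group.IsNilpotent ↥B := hB.isNilpotent
      have hlt : A.subgroupOf B < ⊤ := lt_top_iff_ne_top.2 fun e =>
        hAB.not_ge (Subgroup.subgroupOf_eq_top.1 e)
      obtain ⟨y, hy, hyA⟩ :=
        SetLike.exists_of_lt (Group.normalizerCondition_of_isNilpotent _ hlt)
      rw [← Subgroup.subgroupOf_normalizer_eq hAB.le] at hy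
      exact ⟨y, y.2, fun hh => hyA hh, hy⟩
    have hnolarger : ∀ B : Subgroup G, IsPGroup p B → P ≤ B → B ≤ N → B = P := by
      intro B hB hPB hBN
      by_contra hBP
      have hlt : P < B := lt_of_le_of_ne hPB (Ne.symm hBP)
      rcases eq_or_ne P Q with hPQ | hPQ
      · -- `Q` is not a Sylow subgroup of the fixed points
        subst hPQ
        obtain ⟨T, hT⟩ := IsPGroup.exists_le_sylow (P := P.subgroupOf (fixedOf α))
          (hQ.comap_of_injective _ (fixedOf α).subtype_injective)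
        set T' := (T : Subgroup (fixedOf α)).map (fixedOf α).subtype with hT'
        have hQT : P ≤ T' := fun q hq => ⟨⟨q, hQM hq⟩, hT hq, rfl⟩
        have hcard : Nat.card B ≤ Nat.card T' := by
          obtain ⟨S, hS⟩ := hB.exists_le_sylow
          refine (Subgroup.card_le_of_le hS).trans_eq ?_
          have hU : (U : Subgroup G) ≤ fixedOf α := hfix
          rw [hT', Subgroup.card_map_of_injective (fixedOf α).subtype_injective,
            Sylow.card_eq_multiplicity, Sylow.card_eq_multiplicity]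
          refine congrArg (p ^ ·) (le_antisymm ?_ ?_)
          · rw [← Nat.pow_le_pow_iff_right (Fact.out : p.Prime).one_lt, ← U.card_eq_multiplicity]
            refine Nat.le_of_dvd (pow_pos (Fact.out : p.Prime).pos _) ?_
            obtain ⟨S', hS'⟩ := IsPGroup.exists_le_sylow (P := (U : Subgroup G).subgroupOf (fixedOf α))
              (U.2.comap_of_injective _ (fixedOf α).subtype_injective)
            rw [← S'.card_eq_multiplicity, ← Nat.card_congr (Subgroup.subgroupOfEquivOfLe hU).toEquiv]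
            exact Subgroup.card_dvd_of_le hS'
          · exact (Nat.factorization_le_iff_dvd Nat.card_pos.ne' Nat.card_pos.ne').2
              (Subgroup.card_subgroup_dvd_card _) p
        have hPT' : P < T' := lt_of_le_of_ne hQT fun e =>
          hlt.ne (Subgroup.eq_of_le_of_card_ge hlt.le (hcard.trans_eq (by rw [e])))
        obtain ⟨y, hyT, hyQ, hyN⟩ := hgrow hPT' (T.2.map _)
        obtain ⟨y', hy'T, rfl⟩ := hyT
        have hle : P ⊔ Subgroup.zpowers (y' : G) ≤ N ⊓ fixedOf α :=
          sup_le (le_inf hQN hQM) (Subgroup.zpowers_le.2 ⟨hyN, y'.2⟩)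
        have hp' : IsPGroup p ↥(P ⊔ Subgroup.zpowers (y' : G)) :=
          (T.2.map _).to_le (sup_le hQT (Subgroup.zpowers_le.2 ⟨y', hy'T, rfl⟩))
        exact hyQ (hmax ⟨hp', le_sup_left, hle⟩ le_sup_left
          (le_sup_right (α := Subgroup G) (Subgroup.mem_zpowers _)))
      · have hPM : P ≤ fixedOf α := hPNM.trans inf_le_right
        have hcard : Nat.card Q < Nat.card P := lt_of_not_ge fun hc =>
          hPQ (Subgroup.eq_of_le_of_card_ge hQP hc).symm
        have hNP := ih P hPM hP (ne_bot_of_le_ne_bot hne hQP) (by omega)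
        obtain ⟨y, hyB, hyP, hyN⟩ := hgrow hlt hB
        have hle : P ⊔ Subgroup.zpowers y ≤ N ⊓ fixedOf α :=
          sup_le hPNM (Subgroup.zpowers_le.2 ⟨hBN hyB, hNP hyN⟩)
        exact hyP (hmax ⟨hB.to_le (sup_le hPB (Subgroup.zpowers_le.2 hyB)), hQP.trans le_sup_left, hle⟩
          le_sup_left (le_sup_right (α := Subgroup G) (Subgroup.mem_zpowers _)))
    refine normalizer_le_fixedOf_step h hα hQ hne hQM ?_
    obtain ⟨T, hT⟩ := IsPGroup.exists_le_sylow (P := P.subgroupOf N)
      (hP.comap_of_injective _ N.subtype_injective)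
    have hTP : (T : Subgroup N).map N.subtype = P :=
      hnolarger _ (T.2.map _) (fun x hx => ⟨⟨x, (hPNM hx).1⟩, hT hx, rfl⟩) (Subgroup.map_subtype_le _)
    exact (Subgroup.map_mono (CfsgLib.PLocal.pCore_le_sylow T)).trans
      (hTP.le.trans (hPNM.trans inf_le_right))

/-- A `p'`-automorphism fixing a Sylow `p`-subgroup pointwise is trivial unless its fixed points are
strongly `p`-embedded. -/
theorem eq_one_or_isStronglyPEmbedded (h : LocalCharP p G) (α : MulAut G) (hα : ¬ p ∣ orderOf α)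
    (U : Sylow p G) (hfix : ∀ x ∈ (U : Subgroup G), α x = x) (hp : p ∣ Nat.card G) :
    α = 1 ∨ Cfsg.IsStronglyPEmbedded p (fixedOf α) := by
  by_cases htop : fixedOf α = ⊤
  · exact Or.inl (MulEquiv.ext fun x => (htop ▸ Subgroup.mem_top x : x ∈ fixedOf α))
  refine Or.inr (isStronglyPEmbedded_of_normalizersLE htop ?_ (normalizersLE_fixedOf h hα U hfix))
  exact (U.dvd_card_of_dvd_card hp).trans (Subgroup.card_dvd_of_le hfix)

end CfsgLib.LieCharP
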