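import Cfsg.Agent.LieCharP.FixedSylow
import Mathlib.Logic.Relation

/-!
# Groups without coprime automorphisms fixing a Sylow subgroup pointwise

`NoSPE p G`: only the whole group contains a Sylow `p`-subgroup and the normalisers of all its
nontrivial `p`-subgroups (Lie rank at least two).  `sylowRigid_of_rankOne` deals with rank one:
a split rank one pair `B = U T`, `G = B ∪ U w B` with `C_U(T) = 1`.
-/

set_option autoImplicit false

namespace CfsgLib.LieCharP

open CfsgLib.LocalEven

variable (p : ℕ) (G : Type*) [Group G]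

/-- No proper subgroup of order divisible by `p` contains the normalisers of all its nontrivial
`p`-subgroups. -/
def NoSPE : Prop :=
  ∀ M : Subgroup G, p ∣ Nat.card M → NormalizersLE p M → M = ⊤

/-- No nontrivial automorphism of order prime to `p` fixes a Sylow `p`-subgroup pointwise. -/
def SylowRigid : Prop :=
  ∀ α : MulAut G, ¬ p ∣ orderOf α → ∀ U : Sylow p G, (∀ x ∈ (U : Subgroup G), α x = x) → α = 1

variable {p G}

theorem SylowRigid.congr {H : Type*} [Group H] (e : G ≃* H) (h : SylowRigid p G) : SylowRigid p H := by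
  intro α hα U hfix
  have h1 : MulAut.congr e.symm α = 1 := by
    refine h _ (by rwa [(MulAut.congr e.symm).orderOf_eq])
      (U.comapOfInjective e.toMonoidHom e.injective (fun x _ => ⟨e.symm x, e.apply_symm_apply x⟩))
      fun x hx => ?_
    show e.symm (α (e x)) = x
    rw [hfix (e x) hx, e.symm_apply_apply]
  exact (MulAut.congr e.symm).injective (h1.trans (map_one _).symm)

variable [Fact p.Prime] [Finite G]

/-- A `p`-subgroup meeting such a subgroup nontrivially lies inside it. -/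
theorem le_of_mem_of_ne_one {M : Subgroup G} (hN : NormalizersLE p M) {R : Subgroup G}
    (hR : IsPGroup p R) {x : G} (hxR : x ∈ R) (hxM : x ∈ M) (hx : x ≠ 1) : R ≤ M := by
  obtain ⟨S, hS⟩ := hR.exists_le_sylow
  refine hS.trans (le_of_inf_ne_bot hN S fun e => hx ?_)
  rw [← Subgroup.mem_bot, ← e]
  exact ⟨hS hxR, hxM⟩

/-- Elements commuting with a nontrivial `p`-element of such a subgroup lie inside it. -/
theorem mem_of_commute {M : Subgroup G} (hN : NormalizersLE p M) {x y : G} (hxM : x ∈ M)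
    (hx : x ≠ 1) {k : ℕ} (hxp : x ^ p ^ k = 1) (hc : Commute x y) : y ∈ M := by
  obtain ⟨i, -, hi⟩ := (Nat.dvd_prime_pow (Fact.out : p.Prime)).1 (orderOf_dvd_of_pow_eq_one hxp)
  refine hN (Subgroup.zpowers x) (Subgroup.zpowers_le.2 hxM)
    (IsPGroup.of_card (n := i) (by rw [Nat.card_zpowers, hi])) (by simpa using hx) ?_
  refine Subgroup.centralizer_le_normalizer _ (Subgroup.mem_centralizer_iff.2 ?_)
  rintro _ ⟨n, rfl⟩
  exact (hc.zpow_left n).eq

/-- A conjugate of a surjection puts a given `p`-subgroup inside the given Sylow subgroup. -/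
theorem exists_conj_map_le {H : Type*} [Group H] (f : H →* G) {P : Subgroup H} (hP : IsPGroup p P)
    (S : Sylow p G) : ∃ g : G, P.map ((MulAut.conj g).toMonoidHom.comp f) ≤ S := by
  obtain ⟨R, hR⟩ := (hP.map f).exists_le_sylow
  obtain ⟨g, hg⟩ := MulAction.exists_smul_eq G R S
  refine ⟨g, ?_⟩
  rw [← hg, ← Subgroup.map_map, Sylow.coe_subgroup_smul]
  exact Subgroup.map_mono hR

theorem isPGroup_zpowers {H : Type*} [Group H] {x : H} {k : ℕ} (hx : x ^ p ^ k = 1) :
    IsPGroup p (Subgroup.zpowers x) := by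
  rintro ⟨_, n, rfl⟩
  refine ⟨k, Subtype.ext ?_⟩
  show (x ^ n) ^ p ^ k = 1
  rw [← zpow_natCast (x ^ n), ← zpow_mul, mul_comm, zpow_mul, zpow_natCast, hx, one_zpow]

/-- Generation by two `p`-subgroups with commuting nontrivial elements. -/
theorem noSPE_of_two {H : Type*} [Group H] (f : H →* G) (hf : Function.Surjective f)
    {P Q : Subgroup H} (hP : IsPGroup p P) (hQ : IsPGroup p Q) (htop : P ⊔ Q = ⊤) {x y : H}
    (hx : x ∈ P) (hy : y ∈ Q) (hfx : f x ≠ 1) (hfy : f y ≠ 1) (hc : Commute x y) : NoSPE p G := by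
  intro M hdvd hN
  obtain ⟨S, -, hSM⟩ := exists_sylow_le_of_normalizersLE hN hdvd
  obtain ⟨g, hg⟩ := exists_conj_map_le f hP S
  set f' := (MulAut.conj g).toMonoidHom.comp f
  have hf' : Function.Surjective f' := (MulAut.conj g).surjective.comp hf
  have hne : ∀ z, f z ≠ 1 → f' z ≠ 1 := fun z hz e => hz ((MulEquiv.map_eq_one_iff (MulAut.conj g)).1 e)
  have hPM : P.map f' ≤ M := hg.trans hSM
  have hxM : f' x ∈ M := hPM ⟨x, hx, rfl⟩
  obtain ⟨k, hk⟩ := hP ⟨x, hx⟩
  have hyM : f' y ∈ M := mem_of_commute hN hxM (hne x hfx) (k := k)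
    (by rw [← map_pow, show x ^ p ^ k = 1 from congrArg Subtype.val hk, map_one]) (hc.map f')
  have hQM : Q.map f' ≤ M := le_of_mem_of_ne_one hN (hQ.map f') ⟨y, hy, rfl⟩ hyM (hne y hfy)
  rw [eq_top_iff, ← Subgroup.map_top_of_surjective f' hf', ← htop, Subgroup.map_sup]
  exact sup_le hPM hQM

/-- Generation by a connected set of nontrivial `p`-elements for the commuting relation. -/
theorem noSPE_of_linked {H : Type*} [Group H] (f : H →* G) (hf : Function.Surjective f)
    {S : Set H} (htop : Subgroup.closure S = ⊤) (hS : ∀ x ∈ S, f x ≠ 1 ∧ ∃ k, x ^ p ^ k = 1)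
    (hlink : ∀ x ∈ S, ∀ y ∈ S, Relation.ReflTransGen (fun a b => b ∈ S ∧ Commute a b) x y) :
    NoSPE p G := by
  intro M hdvd hN
  rcases S.eq_empty_or_nonempty with rfl | ⟨x, hx⟩
  · rw [eq_top_iff, ← Subgroup.map_top_of_surjective f hf, ← htop, Subgroup.closure_empty,
      Subgroup.map_bot]
    exact bot_le
  obtain ⟨k, hk⟩ := (hS x hx).2
  obtain ⟨T, -, hTM⟩ := exists_sylow_le_of_normalizersLE hN hdvd
  obtain ⟨g, hg⟩ := exists_conj_map_le f (isPGroup_zpowers hk) T
  set f' := (MulAut.conj g).toMonoidHom.comp f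
  have hf' : Function.Surjective f' := (MulAut.conj g).surjective.comp hf
  have key : ∀ y, Relation.ReflTransGen (fun a b => b ∈ S ∧ Commute a b) x y → y ∈ S ∧ f' y ∈ M := by
    intro y hy
    induction hy with
    | refl => exact ⟨hx, hTM (hg ⟨x, Subgroup.mem_zpowers x, rfl⟩)⟩
    | @tail a b _ hab ih =>
      obtain ⟨ha, j, hj⟩ := hS a ih.1
      exact ⟨hab.1, mem_of_commute hN ih.2 (fun e => ha ((MulEquiv.map_eq_one_iff (MulAut.conj g)).1 e)) (k := j)
        (by rw [← map_pow, hj, map_one]) (hab.2.map f')⟩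
  rw [eq_top_iff, ← Subgroup.map_top_of_surjective f' hf', ← htop, MonoidHom.map_closure,
    Subgroup.closure_le]
  rintro _ ⟨y, hy, rfl⟩
  exact (key y (hlink x hx y hy)).2

/-- Without strongly `p`-embedded subgroups there are no such automorphisms. -/
theorem sylowRigid_of_noSPE (h : LocalCharP p G) (hp : p ∣ Nat.card G) (hG : NoSPE p G) :
    SylowRigid p G := by
  intro α hα U hfix
  have htop : fixedOf α = ⊤ := hG _
    ((U.dvd_card_of_dvd_card hp).trans (Subgroup.card_dvd_of_le hfix))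
    (normalizersLE_fixedOf h hα U hfix)
  exact MulEquiv.ext fun x => (htop ▸ Subgroup.mem_top x : x ∈ fixedOf α)

/-- The rank one criterion: `B` is the point stabiliser, `U` is its `p`-radical, regular on the
other points, and only `1 ∈ U` centralises the two point stabiliser. -/
theorem sylowRigid_of_rankOne [IsSimpleGroup G] (h : LocalCharP p G) {H : Type*} [Group H]
    (f : H →* G) (hf : Function.Surjective f) (B U : Subgroup H) (w : H) (hker : f.ker ≤ B)
    (hBU : B ≤ Subgroup.normalizer (U : Set H)) (hU : IsPGroup p U) (hUne : U.map f ≠ ⊥)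
    (hw : w ∉ B) (hbru : ∀ g, g ∉ B → ∃ u ∈ U, (u * w)⁻¹ * g ∈ B)
    (hfree : ∀ u ∈ U, w⁻¹ * u * w ∈ B → u = 1)
    (hfix1 : ∀ u ∈ U, (∀ b ∈ B, w⁻¹ * b * w ∈ B → b * u = u * b) → u = 1) : SylowRigid p G := by
  intro α hα S hfix
  obtain ⟨g₀, hg₀⟩ := exists_conj_map_le f hU S
  set f' := (MulAut.conj g₀).toMonoidHom.comp f with hf'def
  have hf' : Function.Surjective f' := (MulAut.conj g₀).surjective.comp hf
  have hker' : ∀ z, f' z = 1 → z ∈ B := fun z hz => hker ((MulEquiv.map_eq_one_iff (MulAut.conj g₀)).1 hz)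
  have hUne' : U.map f' ≠ ⊥ := by
    rw [hf'def, ← Subgroup.map_map, Ne, Subgroup.map_eq_bot_iff_of_injective _ (MulAut.conj g₀).injective]
    exact hUne
  have hBfix : ∀ b ∈ B, α (f' b) = f' b := by
    intro b hb
    exact normalizersLE_fixedOf h hα S hfix (U.map f') (hg₀.trans hfix) (hU.map _) hUne'
      (Subgroup.le_normalizer_map f' ⟨b, hBU hb, rfl⟩)
  have hBpre : ∀ z b, b ∈ B → f' z = f' b → z ∈ B := fun z b hb e => by
    have h1 : z * b⁻¹ ∈ B := hker' _ (by rw [map_mul, map_inv, e, mul_inv_cancel])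
    simpa using mul_mem h1 hb
  -- the image of `w`
  obtain ⟨w', hw'⟩ := hf' (α (f' w))
  have hw'B : w' ∉ B := by
    intro hmem
    have h1 : α (f' w) = α (f' w') := by rw [hBfix w' hmem, hw']
    exact hw (hBpre w w' hmem (α.injective h1))
  obtain ⟨u, hu, hc⟩ := hbru w' hw'B
  have hu1 : u = 1 := by
    refine hfix1 u hu fun b hb hbw => ?_
    have h1 : f' (b * w') = f' (w' * (w⁻¹ * b * w)) := by
      rw [map_mul, map_mul f' w', hw', ← hBfix b hb, ← hBfix _ hbw, ← map_mul α, ← map_mul α,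
        ← map_mul, ← map_mul]
      congr 2
      group
    have h2 : w'⁻¹ * b * w' ∈ B := by
      refine hBpre _ _ hbw ?_
      rw [mul_assoc, map_mul, h1, map_mul, map_inv, inv_mul_cancel_left]
    have h3 : w⁻¹ * (u⁻¹ * b * u) * w ∈ B := by
      have := mul_mem (mul_mem hc h2) (inv_mem hc)
      convert this using 1
      group
    have h4 : w⁻¹ * (u⁻¹ * (b * u * b⁻¹)) * w ∈ B := by
      have := mul_mem h3 (inv_mem hbw)
      convert this using 1
      group
    have h5 := hfree _ (mul_mem (inv_mem hu) ((Subgroup.mem_normalizer_iff.1 (hBU hb) u).1 hu)) h4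
    rw [inv_mul_eq_one, eq_mul_inv_iff_mul_eq] at h5
    exact h5.symm
  subst hu1
  rw [one_mul] at hc
  -- every element moves inside its left coset of `B`
  have hall : ∀ x : G, x⁻¹ * α x ∈ B.map f' := by
    intro x
    obtain ⟨g, rfl⟩ := hf' x
    by_cases hgB : g ∈ B
    · rw [hBfix g hgB, inv_mul_cancel]
      exact one_mem _
    obtain ⟨v, hv, hd⟩ := hbru g hgB
    have hg : g = v * w * ((v * w)⁻¹ * g) := by group
    set d := (v * w)⁻¹ * g
    have hvB : α (f' v) = f' v :=
      hfix _ (hg₀ ⟨v, hv, rfl⟩)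
    refine ⟨d⁻¹ * (w⁻¹ * w') * d, mul_mem (mul_mem (inv_mem hd) hc) hd, ?_⟩
    rw [hg]
    simp only [map_mul, map_inv, hvB, hBfix d hd, ← hw']
    group
  set C := (B.map f').normalCore with hC
  have hCne : C ≠ ⊤ := fun e => hw (by
    obtain ⟨b, hb, hbw⟩ := (B.map f').normalCore_le (e ▸ Subgroup.mem_top (f' w) : f' w ∈ C)
    exact hBpre w b hb hbw.symm)
  have hCbot : C = ⊥ := ((B.map f').normalCore_normal.eq_bot_or_eq_top).resolve_right hCne
  refine MulEquiv.ext fun x => ?_
  have hx : x⁻¹ * α x ∈ C := by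
    intro y
    have h1 := mul_mem (hall (x * y⁻¹)) (inv_mem (hall y⁻¹))
    convert h1 using 1
    simp only [map_mul, map_inv]
    group
  rw [hCbot, Subgroup.mem_bot, inv_mul_eq_one] at hx
  exact hx.symm

end CfsgLib.LieCharP
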