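import Cfsg.Agent.LieCharP.Rigid
import Cfsg.Agent.LieCharP.Exceptional
import Cfsg.Agent.Chevalley.Borel

/-!
# The exceptional Chevalley groups have no strongly `p`-embedded subgroup

The group is generated by `U` and its opposite, and some positive root element commutes with a
negative one.
-/

set_option autoImplicit false

namespace CfsgLib.LieCharP

open Cfsg.Lie CfsgLib CfsgLib.Chevalley

/-- A positive root whose root elements commute with those of a negative root. -/
def HasCommutingPair (D : ChevalleyDatum) : Prop :=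
  ∃ r s : Root D, half D ≤ (r : ℕ) ∧ (s : ℕ) < half D ∧ s ≠ r ∧ s ≠ r.rev ∧ D.commTerms r s = []

theorem hasCommutingPair_of_mem {D : ChevalleyDatum}
    (hD : D ∈ [chevG2, chevB2, chevD4, chevF4, chevE6, chevE7, chevE8]) : HasCommutingPair D := by
  simp only [List.mem_cons, List.not_mem_nil, or_false] at hD
  rcases hD with rfl | rfl | rfl | rfl | rfl | rfl | rfl <;> unfold HasCommutingPair <;> decide +kernel

variable {D : ChevalleyDatum} {F : Type*} [Field F]

theorem isPGroup_negUnipotent (hW : GoodWeyl D) [Finite F] (p : ℕ) [Fact p.Prime] [CharP F p] :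
    IsPGroup p ↥(D.negUnipotent F) := by
  have := Fintype.ofFinite F
  obtain ⟨n, -, hn⟩ := FiniteField.card F p
  refine IsPGroup.of_card (n := n * half D) ?_
  rw [negUnipotent_eq hW.good, natCard_uGe hW.toGoodUni, Nat.card_eq_fintype_card, hn, ← pow_mul]

theorem noSPE_group (hD : D ∈ [chevG2, chevB2, chevD4, chevF4, chevE6, chevE7, chevE8])
    [Finite F] (p : ℕ) [Fact p.Prime] [CharP F p] :
    NoSPE p (D.group F) ∧ p ∣ Nat.card (D.group F) := by
  classical
  have := Fintype.ofFinite F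
  have hW : GoodWeyl D := goodWeyl_of_mem hD
  have hg := hW.good
  obtain ⟨r, s, hr, hs, hsr, hne, hc⟩ := hasCommutingPair_of_mem hD
  have hP : IsPGroup p ((D.posUnipotent F).subgroupOf (D.group F)) :=
    (ChevParabolic.isPGroup_posUnipotent hW p).comap_of_injective _ Subtype.coe_injective
  have hQ : IsPGroup p ((D.negUnipotent F).subgroupOf (D.group F)) :=
    (isPGroup_negUnipotent hW p).comap_of_injective _ Subtype.coe_injective
  set x : D.group F := ⟨X hg r 1, X_mem_group hg r 1⟩
  set y : D.group F := ⟨X hg s 1, X_mem_group hg s 1⟩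
  have hX1 : ∀ (i : Root D) (h : X hg i (1 : F) ∈ D.group F), (⟨X hg i 1, h⟩ : D.group F) ≠ 1 :=
    fun i h e => one_ne_zero (α := F)
      (X_injective hg i ((congrArg Subtype.val e).trans (X_zero hg i).symm))
  refine ⟨noSPE_of_two (MonoidHom.id _) Function.surjective_id hP hQ ?_ (x := x) (y := y)
    (Chevalley.X_mem_pos hg hr 1) (X_mem_neg hg hs 1) (hX1 _ _) (hX1 _ _) ?_, ?_⟩
  · rw [eq_top_iff]
    rintro g -
    have hle : D.group F ≤ ((D.posUnipotent F).subgroupOf (D.group F) ⊔
        (D.negUnipotent F).subgroupOf (D.group F)).map (D.group F).subtype := by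
      conv_lhs => rw [group_eq_closure hg]
      refine (Subgroup.closure_le _).2 ?_
      rintro _ ⟨i, t, rfl⟩
      refine ⟨⟨X hg i t, X_mem_group hg i t⟩, ?_, rfl⟩
      by_cases hi : half D ≤ (i : ℕ)
      · exact (le_sup_left : (D.posUnipotent F).subgroupOf (D.group F) ≤ _) (Chevalley.X_mem_pos hg hi t)
      · exact (le_sup_right : (D.negUnipotent F).subgroupOf (D.group F) ≤ _) (X_mem_neg hg (by omega) t)
    obtain ⟨z, hz, hzg⟩ := hle g.2
    rwa [← Subtype.ext hzg]
  · refine Subtype.ext ?_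
    show X hg r 1 * X hg s 1 = X hg s 1 * X hg r 1
    rw [X_comm hW.toGoodComm r s hsr hne, commRhs, hc]
    simp [wordGL]
  · obtain ⟨k, hk⟩ := hP ⟨x, Chevalley.X_mem_pos hg hr 1⟩
    have hk' : x ^ p ^ k = 1 := congrArg Subtype.val hk
    obtain ⟨i, -, hi⟩ := (Nat.dvd_prime_pow (Fact.out : p.Prime)).1 (orderOf_dvd_of_pow_eq_one hk')
    have hi0 : i ≠ 0 := fun e => hX1 r _ (orderOf_eq_one_iff.1 (by rw [hi, e, pow_zero]))
    exact (hi ▸ dvd_pow_self p hi0).trans (orderOf_dvd_natCard x)

/-- The exceptional families. -/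
theorem sylowRigid_of_exceptional {p : ℕ} [Fact p.Prime] {G : Type*} [Group G] [Finite G]
    (h : Cfsg.IsExceptionalChevChar p G) : SylowRigid p G := by
  obtain ⟨F, _, _, _, ⟨-, ⟨e⟩⟩ | ⟨⟨e⟩⟩ | ⟨⟨e⟩⟩ | ⟨⟨e⟩⟩ | ⟨⟨e⟩⟩⟩ := h <;>
    exact (sylowRigid_of_noSPE (localCharP_group (by simp) p F) (noSPE_group (by simp) p).2
      (noSPE_group (by simp) p).1).congr e.symm

end CfsgLib.LieCharP
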