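import Cfsg.Agent.LieCharP.Rigid
import Cfsg.Agent.LieCharP.Linear
import Cfsg.Agent.LieCharP.Symplectic
import Cfsg.Agent.Linear.Perfect

/-!
# `PSL_n(q)`, `n ≥ 3`, and `PSp_{2m}(q)`, `m ≥ 2`: no strongly `p`-embedded subgroup

The transvections generate and their commuting graph is connected.
-/

set_option autoImplicit false

namespace CfsgLib.LieCharP

open Matrix

/-- The linking criterion modulo the centre. -/
theorem sylowRigid_of_linked_center {p : ℕ} [Fact p.Prime] {H : Type*} [Group H] [Finite H]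
    (hloc : LocalCharP p (H ⧸ Subgroup.center H)) {S : Set H} (htop : Subgroup.closure S = ⊤)
    (hne : S.Nonempty) (hS : ∀ x ∈ S, x ∉ Subgroup.center H ∧ x ^ p = 1)
    (hlink : ∀ x ∈ S, ∀ y ∈ S, Relation.ReflTransGen (fun a b => b ∈ S ∧ Commute a b) x y) :
    SylowRigid p (H ⧸ Subgroup.center H) := by
  have hS' : ∀ x ∈ S, QuotientGroup.mk' (Subgroup.center H) x ≠ 1 ∧ ∃ k, x ^ p ^ k = 1 := fun x hx =>
    ⟨fun e => (hS x hx).1 ((QuotientGroup.eq_one_iff x).1 e), 1, by rw [pow_one]; exact (hS x hx).2⟩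
  refine sylowRigid_of_noSPE hloc ?_
    (noSPE_of_linked _ (QuotientGroup.mk'_surjective _) htop hS' hlink)
  obtain ⟨x, hx⟩ := hne
  have h : orderOf (QuotientGroup.mk' (Subgroup.center H) x) = p :=
    orderOf_eq_prime (by rw [← map_pow, (hS x hx).2, map_one]) (hS' x hx).1
  exact h ▸ orderOf_dvd_natCard _

section linear

variable {F : Type*} [Field F] {n : ℕ}

open Matrix.SpecialLinearGroup (transvection)

theorem transvection_commute_row {i j k : Fin n} (hij : i ≠ j) (hik : i ≠ k) (c d : F) :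
    Commute (transvection hij c : Matrix.SpecialLinearGroup (Fin n) F) (transvection hik d) := by
  refine CfsgLib.Linear.sl_ext_mulVec fun w l => ?_
  simp only [Matrix.SpecialLinearGroup.coe_mul, ← mulVec_mulVec, CfsgLib.Linear.transvection_smul_apply,
    if_neg hij.symm, if_neg hik.symm]
  by_cases h : l = i <;> simp [h] <;> ring

theorem transvection_commute_col {i j k : Fin n} (hij : i ≠ j) (hkj : k ≠ j) (c d : F) :
    Commute (transvection hij c : Matrix.SpecialLinearGroup (Fin n) F) (transvection hkj d) := by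
  refine CfsgLib.Linear.sl_ext_mulVec fun w l => ?_
  simp only [Matrix.SpecialLinearGroup.coe_mul, ← mulVec_mulVec, CfsgLib.Linear.transvection_smul_apply,
    if_neg hij.symm, if_neg hkj.symm]
  ring

theorem transvection_pow {i j : Fin n} (hij : i ≠ j) (c : F) (k : ℕ) :
    (transvection hij c : Matrix.SpecialLinearGroup (Fin n) F) ^ k = transvection hij ((k : F) * c) := by
  induction k with
  | zero =>
    refine CfsgLib.Linear.sl_ext_mulVec fun w l => ?_
    simp [CfsgLib.Linear.transvection_smul_apply]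
  | succ k ih =>
    rw [pow_succ, ih]
    refine CfsgLib.Linear.sl_ext_mulVec fun w l => ?_
    simp only [Matrix.SpecialLinearGroup.coe_mul, ← mulVec_mulVec, CfsgLib.Linear.transvection_smul_apply,
      if_neg hij.symm]
    by_cases h : l = i <;> simp [h] <;> ring

/-- `PSL_n(q)`, `n ≥ 3`. -/
theorem sylowRigid_PSL [Finite F] (p : ℕ) [Fact p.Prime] [CharP F p] (hn : 3 ≤ n) :
    SylowRigid p (Matrix.ProjectiveSpecialLinearGroup (Fin n) F) := by
  classical
  let S : Set (Matrix.SpecialLinearGroup (Fin n) F) :=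
    {g | ∃ (i j : Fin n) (h : i ≠ j) (c : F), c ≠ 0 ∧ g = transvection h c}
  have hmem : ∀ {i j : Fin n} (h : i ≠ j) {c : F}, c ≠ 0 → transvection h c ∈ S :=
    fun {i j} h {c} hc => ⟨i, j, h, c, hc, rfl⟩
  have hthird : ∀ i k : Fin n, ∃ t, i ≠ t ∧ k ≠ t := by
    intro i k
    obtain ⟨t, -, ht⟩ := Finset.exists_mem_notMem_of_card_lt_card
      (s := ({i, k} : Finset (Fin n))) (t := Finset.univ)
      (Finset.card_le_two.trans_lt (by rw [Finset.card_univ, Fintype.card_fin]; omega))
    simp only [Finset.mem_insert, Finset.mem_singleton, not_or] at ht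
    exact ⟨t, Ne.symm ht.1, Ne.symm ht.2⟩
  refine sylowRigid_of_linked_center (localCharP_PSL p (by omega)) (S := S) ?_ ?_ ?_ ?_
  · refine CfsgLib.Linear.sl_eq_top_of_transvections fun i j hij c => ?_
    rcases eq_or_ne c 0 with rfl | hc
    · rw [show transvection hij (0 : F) = (1 : Matrix.SpecialLinearGroup (Fin n) F) from
        CfsgLib.Linear.sl_ext_mulVec fun w l => by simp [CfsgLib.Linear.transvection_smul_apply]]
      exact one_mem _
    · exact Subgroup.subset_closure (hmem hij hc)
  · obtain ⟨t, ht, -⟩ := hthird ⟨0, by omega⟩ ⟨0, by omega⟩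
    exact ⟨_, hmem ht one_ne_zero⟩
  · rintro x ⟨i, j, h, c, hc, rfl⟩
    refine ⟨fun hz => hc ?_, ?_⟩
    · obtain ⟨r, -, hr⟩ := Matrix.SpecialLinearGroup.mem_center_iff.1 hz
      have h1 := congrFun (congrArg (fun M : Matrix (Fin n) (Fin n) F => M *ᵥ Pi.single j 1) hr) i
      rw [CfsgLib.Linear.transvection_smul_apply] at h1
      simpa [h, scalar_apply, mulVec_single] using h1.symm
    · rw [transvection_pow, CharP.cast_eq_zero, zero_mul]
      exact CfsgLib.Linear.sl_ext_mulVec fun w l => by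
        simp [CfsgLib.Linear.transvection_smul_apply]
  · rintro x ⟨i, j, hij, c, hc, rfl⟩ y ⟨k, l, hkl, d, hd, rfl⟩
    obtain ⟨t, hit, hkt⟩ := hthird i k
    refine ((Relation.ReflTransGen.single ?_).tail (b := transvection hit (1 : F))
      (c := transvection hkt (1 : F)) ?_).tail ?_
    · exact ⟨hmem hit one_ne_zero, transvection_commute_row hij hit c 1⟩
    · exact ⟨hmem hkt one_ne_zero, transvection_commute_col hit hkt 1 1⟩
    · exact ⟨hmem hkl hd, transvection_commute_row hkt hkl 1 d⟩

end linear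

section symplectic

open CfsgLib.Forms CfsgLib.Forms4

variable {F : Type*} [Field F] {m : ℕ}

local notation "B" => Cfsg.sympForm m F

/-- `PSp_{2m}(q)`, `m ≥ 2`. -/
theorem sylowRigid_PSp [Finite F] (p : ℕ) [Fact p.Prime] [CharP F p] (hm : 2 ≤ m) :
    SylowRigid p (Cfsg.PSp m F) := by
  classical
  let S : Set (Matrix.symplecticGroup (Fin m) F) :=
    {g | ∃ (w : Fin m ⊕ Fin m → F) (c : F), w ≠ 0 ∧ c ≠ 0 ∧ g = spTransv w c}
  refine sylowRigid_of_linked_center (localCharP_PSp p (by omega)) (S := S) ?_ ?_ ?_ ?_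
  · rw [eq_top_iff, ← transvGroup_eq_top (F := F) (m := m)]
    refine (Subgroup.closure_le _).2 ?_
    rintro _ ⟨w, -, c, rfl⟩
    by_cases hwc : w = 0 ∨ c = 0
    · rw [show spTransv w c = 1 from sp_ext fun x => by
        rw [spTransv_mulVec, Submonoid.coe_one, one_mulVec]
        rcases hwc with rfl | rfl <;> simp]
      exact one_mem _
    · rw [not_or] at hwc
      exact Subgroup.subset_closure ⟨w, c, hwc.1, hwc.2, rfl⟩
  · exact ⟨_, Pi.single (.inl ⟨0, by omega⟩) 1, 1,
      fun h => one_ne_zero (α := F) (by simpa using congrFun h (.inl ⟨0, by omega⟩)), one_ne_zero, rfl⟩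
  · rintro x ⟨w, c, hw, hc, rfl⟩
    refine ⟨fun hz => ?_, ?_⟩
    · obtain ⟨r, hr⟩ := Forms4.mem_center_iff.1 hz
      have hr' : ∀ a, a + (c * B a w) • w = r • a := fun a => by
        rw [← spTransv_mulVec, hr, smul_mulVec, one_mulVec]
      have hr1 : r = 1 := smul_left_injective F hw (by
        show r • w = (1 : F) • w
        rw [← hr' w, sympForm_self, mul_zero, zero_smul, add_zero, one_smul])
      refine hw (sympForm_sep w fun a => ?_)
      have h1 := hr' a
      rw [hr1, one_smul, add_eq_left, smul_eq_zero] at h1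
      rw [sympForm_swap, ((mul_eq_zero.1 (h1.resolve_right hw)).resolve_left hc), neg_zero]
    · show (transvHom w (Multiplicative.ofAdd c)) ^ p = 1
      rw [← map_pow, ← ofAdd_nsmul, nsmul_eq_mul, CharP.cast_eq_zero, zero_mul, ofAdd_zero, map_one]
  · rintro x ⟨v, c, hv, hc, rfl⟩ y ⟨w, d, hw, hd, rfl⟩
    have hcomm : ∀ (a b : Fin m ⊕ Fin m → F) (s t : F), B b a = 0 →
        Commute (spTransv a s) (spTransv b t) := fun a b s t h => by
      have h1 := conj_spTransv (spTransv a s) b t
      rw [spTransv_mulVec, h, mul_zero, zero_smul, add_zero, mul_inv_eq_iff_eq_mul] at h1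
      exact h1
    let L : (Fin m ⊕ Fin m → F) →ₗ[F] F × F :=
      ((sympBilin m F).flip v).prod ((sympBilin m F).flip w)
    obtain ⟨z, hz, hz0⟩ := (Submodule.ne_bot_iff _).1 (show LinearMap.ker L ≠ ⊥ from fun e => by
      have h1 := LinearMap.finrank_range_add_finrank_ker L
      rw [e, finrank_bot, add_zero, Module.finrank_pi, Fintype.card_sum, Fintype.card_fin] at h1
      have h2 : Module.finrank F (LinearMap.range L) ≤ 2 :=
        (Submodule.finrank_le _).trans (by rw [Module.finrank_prod, Module.finrank_self])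
      omega)
    have hzv : B z v = 0 := by
      simpa [L, sympBilin_apply] using congrArg Prod.fst (LinearMap.mem_ker.1 hz)
    have hzw : B z w = 0 := by
      simpa [L, sympBilin_apply] using congrArg Prod.snd (LinearMap.mem_ker.1 hz)
    refine (Relation.ReflTransGen.single ?_).tail (b := spTransv z 1) ?_
    · exact ⟨⟨z, 1, hz0, one_ne_zero, rfl⟩, hcomm v z c 1 hzv⟩
    · exact ⟨⟨w, d, hw, hd, rfl⟩, hcomm z w 1 d (by rw [sympForm_swap, hzw, neg_zero])⟩

end symplectic

end CfsgLib.LieCharP
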