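import Cfsg.Agent.LieCharP.RigidLinear
import Cfsg.Agent.LieCharP.Orthogonal
import Cfsg.Agent.OrthMax.Basic

/-!
# `PΩ(Q)` in dimension at least five: no strongly `p`-embedded subgroup

The Eichler elements generate; two of them are linked through a long root element `E(u,u') = E(u',-u)`.
-/

set_option autoImplicit false

namespace CfsgLib.LieCharP

open Matrix Module CfsgLib.Spinor CfsgLib.Forms CfsgLib.Forms4

variable {F : Type*} [Field F] {ι : Type} [Fintype ι] [DecidableEq ι] {Q : QuadraticForm F (ι → F)}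

theorem eich_swap {u v : ι → F} (hu : Q u = 0) (hv : Q v = 0) :
    eich Q u v = eich Q v (-u) := by
  refine Matrix.ext_iff_mulVec.2 fun x => ?_
  simp only [eich_mulVec, QuadraticMap.map_neg, QuadraticMap.polar_neg_left, hu, hv, zero_mul,
    zero_smul, sub_zero]
  module

variable [Fintype F] (hQ : (QuadraticMap.polarBilin Q).Nondegenerate) (hn : 5 ≤ Fintype.card ι)

include hQ hn in
/-- `PΩ(Q)`. -/
theorem sylowRigid_POmega (P : TwoPairs Q) (p : ℕ) [Fact p.Prime] [CharP F p] :
    SylowRigid p (Cfsg.POmega F ⇑Q) := by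
  classical
  set Om := Cfsg.Omega F ⇑Q with hOm
  have homega : Om = eichGroup Q := TwoPairs.omega_eq_eichGroup hQ hn P
  let E : (u w : ι → F) → (hu : Q u = 0) → (huw : QuadraticMap.polar (⇑Q) u w = 0) → ↥Om :=
    fun u w hu huw => ⟨eichIso Q u w hu huw, by rw [homega]; exact eichIso_mem Q hu huw⟩
  let S : Set ↥Om :=
    {g | ∃ u w, Q u = 0 ∧ QuadraticMap.polar (⇑Q) u w = 0 ∧ mat Q g.1 = eich Q u w ∧ g ≠ 1}
  have hext : ∀ {a b : ↥Om}, mat Q a.1 = mat Q b.1 → a = b := fun h => Subtype.ext (mat_ext Q h)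
  have hone : ∀ {u w : ι → F} {g : ↥Om}, mat Q g.1 = eich Q u w → g ≠ 1 → u ≠ 0 := by
    intro u w g hg hne h0
    refine hne (hext ?_)
    rw [hg, h0]
    refine Matrix.ext_iff_mulVec.2 fun x => ?_
    simp [eich_mulVec, mat_one, QuadraticMap.polar]
  have hsame : ∀ {u w w' : ι → F} {g h : ↥Om}, Q u = 0 → QuadraticMap.polar (⇑Q) u w = 0 →
      QuadraticMap.polar (⇑Q) u w' = 0 → mat Q g.1 = eich Q u w → mat Q h.1 = eich Q u w' →
      Commute g h := by
    intro u w w' g h hu huw huw' hg hh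
    refine hext ?_
    rw [Subgroup.coe_mul, Subgroup.coe_mul, mat_mul, mat_mul, hg, hh, eich_mul hu huw huw',
      eich_mul hu huw' huw, add_comm]
  have hsep : ∀ u : ι → F, u ≠ 0 → ∃ a, QuadraticMap.polar (⇑Q) u a = 1 := fun u hu => by
    obtain ⟨z, hz⟩ : ∃ z, QuadraticMap.polar (⇑Q) u z ≠ 0 := by
      by_contra! h
      exact hu (hQ.1 u fun z => h z)
    exact ⟨(QuadraticMap.polar (⇑Q) u z)⁻¹ • z, by
      rw [QuadraticMap.polar_smul_right, smul_eq_mul, inv_mul_cancel₀ hz]⟩
  -- long root elements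
  have hlong : ∀ {u v : ι → F} (hu : Q u = 0) (huv : QuadraticMap.polar (⇑Q) u v = 0), u ≠ 0 →
      Q v = 0 → (∀ t : F, v ≠ t • u) → E u v hu huv ≠ 1 := by
    intro u v hu huv hu0 hv hvu e
    obtain ⟨a, ha⟩ := hsep u hu0
    have h1 := congrArg (fun g : ↥Om => mat Q g.1 *ᵥ a) e
    simp only [E, mat_eichIso, OneMemClass.coe_one, mat_one, one_mulVec, eich_mulVec, ha, hv, zero_mul,
      zero_smul, sub_zero, one_smul, add_eq_left] at h1
    exact hvu _ (sub_eq_zero.1 h1)
  refine sylowRigid_of_linked_center (localCharP_POmega hQ hn P p) (S := S) ?_ ?_ ?_ ?_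
  · rw [eq_top_iff]
    rintro g -
    have hle : eichGroup Q ≤ (Subgroup.closure S).map Om.subtype := by
      refine (Subgroup.closure_le _).2 ?_
      rintro g ⟨u, w, hu, huw, hg⟩
      have hgO : g ∈ Om := by rw [homega]; exact Subgroup.subset_closure ⟨u, w, hu, huw, hg⟩
      refine ⟨⟨g, hgO⟩, ?_, rfl⟩
      by_cases h1 : (⟨g, hgO⟩ : ↥Om) = 1
      · rw [h1]; exact one_mem _
      · exact Subgroup.subset_closure ⟨u, w, hu, huw, hg, h1⟩
    obtain ⟨z, hz, hzg⟩ := hle (homega.le g.2)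
    rwa [← Subtype.ext (a1 := z) (a2 := g) hzg]
  · have he0 : P.e ≠ 0 := fun h => by
      have := P.ef; rw [h] at this; simp [QuadraticMap.polar] at this
    exact ⟨E P.e P.a P.qe P.ea, _, _, P.qe, P.ea, rfl, hlong P.qe P.ea he0 P.qa fun t h => by
      have := P.ab
      rw [h, QuadraticMap.polar_smul_left, P.eb, smul_zero] at this
      exact zero_ne_one this⟩
  · rintro g ⟨u, w, hu, huw, hg, hne⟩
    have hu0 := hone hg hne
    refine ⟨fun hz => hne ?_, ?_⟩
    · obtain ⟨r, -, hr⟩ := (TwoPairs.mem_center_omega_iff hQ hn P g).1 hz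
      have h1 : r = 1 := smul_left_injective F hu0 (by
        show r • u = (1 : F) • u
        have h := eich_mulVec_left hu huw
        rw [← hg, hr, smul_mulVec, one_mulVec] at h
        rw [h, one_smul])
      exact hext (by rw [hr, h1, one_smul, OneMemClass.coe_one, mat_one])
    · have hk : ∀ k : ℕ, mat Q (g ^ k).1 = eich Q u ((k : F) • w) := by
        intro k
        induction k with
        | zero => rw [pow_zero, Nat.cast_zero, zero_smul, eich_zero, OneMemClass.coe_one, mat_one]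
        | succ k ih =>
          rw [pow_succ, Subgroup.coe_mul, mat_mul, ih, hg, eich_mul hu (by
            rw [QuadraticMap.polar_smul_right, huw, smul_zero]) huw, Nat.cast_succ, add_smul, one_smul]
      exact hext (by rw [hk, CharP.cast_eq_zero, zero_smul, eich_zero, OneMemClass.coe_one, mat_one])
  · rintro g ⟨u, w, hu, huw, hg, hgne⟩ h ⟨v, z, hv, hvz, hh, hhne⟩
    have hu0 := hone hg hgne
    have hv0 := hone hh hhne
    have hS : h ∈ S := ⟨v, z, hv, hvz, hh, hhne⟩
    by_cases hdep : ∃ t : F, v = t • u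
    · obtain ⟨t, rfl⟩ := hdep
      rw [eich_smul_left] at hh
      have ht : t ≠ 0 := fun h => hv0 (by rw [h, zero_smul])
      rw [QuadraticMap.polar_smul_left, smul_eq_mul, mul_eq_zero, or_iff_right ht] at hvz
      exact Relation.ReflTransGen.single ⟨hS,
        hsame hu huw (by rw [QuadraticMap.polar_smul_right, hvz, smul_zero]) hg hh⟩
    push Not at hdep
    by_cases huv : QuadraticMap.polar (⇑Q) u v = 0
    · refine ((Relation.ReflTransGen.single ?_).tail (b := E u v hu huv) ?_)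
      · exact ⟨⟨u, v, hu, huv, rfl, hlong hu huv hu0 hv hdep⟩, hsame hu huw huv hg rfl⟩
      · refine ⟨hS, hsame hv (w := -u) (by
          rw [QuadraticMap.polar_neg_right, QuadraticMap.polar_comm, huv, neg_zero]) hvz ?_ hh⟩
        exact eich_swap hu hv
    obtain ⟨x, hx, hx0, hxq⟩ := OrthMax.exists_singular hQ (perpSub Q ![u, v]) (by
      have h3 := le_finrank_perpSub Q ![u, v]
      have h4 : finrank F (ι → F) = Fintype.card ι := Module.finrank_pi F
      omega)
    have hux : QuadraticMap.polar (⇑Q) u x = 0 := mem_perpSub.1 hx 0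
    have hvx : QuadraticMap.polar (⇑Q) v x = 0 := mem_perpSub.1 hx 1
    have hxu : ∀ t : F, x ≠ t • u := fun t h => by
      rw [h, QuadraticMap.polar_smul_right, QuadraticMap.polar_comm, smul_eq_mul, mul_eq_zero,
        or_iff_left huv] at hvx
      exact hx0 (by rw [h, hvx, zero_smul])
    have hxv : ∀ t : F, x ≠ t • v := fun t h => by
      rw [h, QuadraticMap.polar_smul_right, smul_eq_mul, mul_eq_zero, or_iff_left huv] at hux
      exact hx0 (by rw [h, hux, zero_smul])
    refine ((Relation.ReflTransGen.single ?_).tail (b := E u x hu hux)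
      (c := E v x hv hvx) ?_).tail ?_
    · exact ⟨⟨u, x, hu, hux, rfl, hlong hu hux hu0 hxq hxu⟩, hsame hu huw hux hg rfl⟩
    · exact ⟨⟨v, x, hv, hvx, rfl, hlong hv hvx hv0 hxq hxv⟩, hsame hxq (w := -u) (w' := -v)
        (by rw [QuadraticMap.polar_neg_right, QuadraticMap.polar_comm, hux, neg_zero])
        (by rw [QuadraticMap.polar_neg_right, QuadraticMap.polar_comm, hvx, neg_zero])
        (eich_swap hu hxq) (eich_swap hv hxq)⟩
    · exact ⟨hS, hsame hv hvx hvz rfl hh⟩

section standard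

variable {F : Type*} [Field F] [Fintype F] (p : ℕ) [Fact p.Prime] [CharP F p]

theorem sylowRigid_POmegaOdd (hodd : Odd (Fintype.card F)) (m : ℕ) (hm : 2 ≤ m) :
    SylowRigid p (Cfsg.POmega F (Cfsg.quadFormOdd m F)) := by
  have h2 : (2 : F) ≠ 0 := fun h =>
    (Nat.not_even_iff_odd.2 hodd) ((two_eq_zero_iff_even rfl).1 h)
  rw [← CfsgLib.StdForms.coe_oddQ]
  exact sylowRigid_POmega (CfsgLib.StdForms.oddQ_nondegenerate h2 m) (by simp; omega) (oddPairs m hm) p

theorem sylowRigid_POmegaPlus (m : ℕ) (hm : 3 ≤ m) :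
    SylowRigid p (Cfsg.POmega F (Cfsg.quadFormPlus m F)) := by
  rw [← CfsgLib.StdForms.coe_plusQ]
  exact sylowRigid_POmega (CfsgLib.StdForms.plusQ_nondegenerate m) (by simp; omega)
    (plusPairs m (by omega)) p

theorem sylowRigid_POmegaMinus (k : ℕ) (hk : 2 ≤ k) (a b : F)
    (hab : ∀ z₁ z₂ : F, z₁ ^ 2 + a * z₁ * z₂ + b * z₂ ^ 2 = 0 → z₁ = 0 ∧ z₂ = 0) :
    SylowRigid p (Cfsg.POmega F (Cfsg.quadFormMinus k F a b)) := by
  rw [← CfsgLib.StdForms.coe_minusQ]
  exact sylowRigid_POmega (CfsgLib.StdForms.minusQ_nondegenerate k (disc_ne_zero hab))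
    (by simp; omega) (minusPairs k hk a b) p

end standard

end CfsgLib.LieCharP
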