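import Cfsg.Agent.LieCharP.Rigid
import Cfsg.Agent.LocalEvenBasic.RankOneP.SUThree
import Cfsg.Agent.LocalEvenBasic.RankOneP.SLTwo
import Cfsg.Prelude.Def_Classical

/-!
# `PSL₂(q)` and `PSU₃(q)`: no coprime automorphism fixes a Sylow subgroup pointwise
-/

set_option autoImplicit false

namespace CfsgLib.LieCharP

open scoped MatrixGroups

section linear

open CfsgLib.LocalEven50 CfsgLib.RankOneP

variable (F : Type*) [Field F]

/-- The upper triangular matrices. -/
def upperBorel : Subgroup SL(2, F) where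
  carrier := {g | (g : Matrix (Fin 2) (Fin 2) F) 1 0 = 0}
  one_mem' := by simp
  mul_mem' {a b} (ha : (a : Matrix (Fin 2) (Fin 2) F) 1 0 = 0)
      (hb : (b : Matrix (Fin 2) (Fin 2) F) 1 0 = 0) := by
    show ((a * b : SL(2, F)) : Matrix (Fin 2) (Fin 2) F) 1 0 = 0
    simp [Matrix.mul_apply, Fin.sum_univ_two, ha, hb]
  inv_mem' {a} (ha : (a : Matrix (Fin 2) (Fin 2) F) 1 0 = 0) := by
    show ((a⁻¹ : SL(2, F)) : Matrix (Fin 2) (Fin 2) F) 1 0 = 0
    simp [Matrix.SpecialLinearGroup.coe_inv, Matrix.adjugate_fin_two, ha]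

variable {F}

/-- `PSL₂(q)`, `q ≥ 4`. -/
theorem sylowRigid_PSL_two {p : ℕ} [Fact p.Prime] [Fintype F] [CharP F p] (hF : 4 ≤ Fintype.card F)
    {G : Type*} [Group G] [Finite G] [IsSimpleGroup G] (hloc : LocalCharP p G)
    (e : G ≃* Matrix.ProjectiveSpecialLinearGroup (Fin 2) F) : SylowRigid p G := by
  classical
  set f : SL(2, F) →* G := e.symm.toMonoidHom.comp (QuotientGroup.mk' (Subgroup.center SL(2, F)))
    with hfdef
  have hf : Function.Surjective f := e.symm.surjective.comp (QuotientGroup.mk'_surjective _)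
  have hker : ∀ z, f z = 1 → z ∈ Subgroup.center SL(2, F) := fun z hz =>
    (QuotientGroup.eq_one_iff z).1 (e.symm.injective (hz.trans (map_one _).symm))
  set w : SL(2, F) := ⟨!![0, -1; 1, 0], by simp [Matrix.det_fin_two]⟩ with hw
  have hwinv : ((w⁻¹ : SL(2, F)) : Matrix (Fin 2) (Fin 2) F) = !![0, 1; -1, 0] := by
    rw [Matrix.SpecialLinearGroup.coe_inv,
      show (w : Matrix (Fin 2) (Fin 2) F) = !![0, -1; 1, 0] from rfl, Matrix.adjugate_fin_two_of]
    simp
  have hwv : (w : Matrix (Fin 2) (Fin 2) F) = !![0, -1; 1, 0] := rfl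
  refine sylowRigid_of_rankOne hloc f hf (upperBorel F) (upperHom F).range w (fun z hz => ?_)
    (fun g hg => ?_) (isPGroup_range_hom _) (fun h => ?_) (fun h => ?_) (fun g hg => ?_)
    (fun u hu hB => ?_) (fun u hu hB => ?_)
  · have h1 := Subgroup.mem_center_iff.1 (hker z hz) (upperHom F (.ofAdd 1))
    have h2 : ((upperHom F (.ofAdd 1) * z : SL(2, F)) : Matrix (Fin 2) (Fin 2) F) 0 0 =
        ((z * upperHom F (.ofAdd 1) : SL(2, F)) : Matrix (Fin 2) (Fin 2) F) 0 0 := by rw [h1]
    show (z : Matrix (Fin 2) (Fin 2) F) 1 0 = 0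
    simpa [upper_val, Matrix.mul_apply, Fin.sum_univ_two] using h2
  · refine Subgroup.mem_normalizer_fintype fun v hv => ?_
    obtain ⟨t, rfl⟩ := hv
    have h1 := CfsgLib.PSL2Borel.conj_upper_of_borel F g hg t.toAdd
    rw [ofAdd_toAdd] at h1
    exact ⟨_, eq_mul_inv_of_mul_eq h1.symm⟩
  · have h1 : f (upperHom F (.ofAdd 1)) = 1 := (Subgroup.eq_bot_iff_forall _).1 h _ ⟨_, ⟨_, rfl⟩, rfl⟩
    have h2 := Subgroup.mem_center_iff.1 (hker _ h1) w
    have h3 : ((w * upperHom F (.ofAdd 1) : SL(2, F)) : Matrix (Fin 2) (Fin 2) F) 0 0 =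
        ((upperHom F (.ofAdd 1) * w : SL(2, F)) : Matrix (Fin 2) (Fin 2) F) 0 0 := by rw [h2]
    simp [upper_val, hwv, Matrix.mul_apply, Fin.sum_univ_two] at h3
  · exact one_ne_zero (α := F) h
  · have hc : (g : Matrix (Fin 2) (Fin 2) F) 1 0 ≠ 0 := hg
    refine ⟨upperHom F (.ofAdd ((g : Matrix (Fin 2) (Fin 2) F) 0 0 /
      (g : Matrix (Fin 2) (Fin 2) F) 1 0)), ⟨_, rfl⟩, ?_⟩
    show (((upperHom F _ * w)⁻¹ * g : SL(2, F)) : Matrix (Fin 2) (Fin 2) F) 1 0 = 0
    rw [mul_inv_rev, ← map_inv, Matrix.SpecialLinearGroup.coe_mul,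
      Matrix.SpecialLinearGroup.coe_mul, hwinv, upper_val]
    simp [Matrix.mul_apply, Fin.sum_univ_two]
    field_simp
    ring
  · obtain ⟨t, rfl⟩ := hu
    have h1 : (((w⁻¹ * upperHom F t * w) : SL(2, F)) : Matrix (Fin 2) (Fin 2) F) 1 0 = 0 := hB
    rw [Matrix.SpecialLinearGroup.coe_mul, Matrix.SpecialLinearGroup.coe_mul, hwinv, upper_val,
      hwv] at h1
    simp [Matrix.mul_apply, Fin.sum_univ_two] at h1
    rw [show t = 1 from Multiplicative.toAdd.injective h1, map_one]
  · obtain ⟨t, rfl⟩ := hu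
    obtain ⟨a, ha⟩ : ∃ a : Fˣ, a ∉ ({1, -1} : Finset Fˣ) := by
      by_contra! hall
      have h1 : Fintype.card Fˣ ≤ ({1, -1} : Finset Fˣ).card :=
        Finset.card_le_card (fun x _ => hall x)
      rw [Fintype.card_units] at h1
      have := Finset.card_le_two (a := (1 : Fˣ)) (b := -1)
      omega
    simp only [Finset.mem_insert, Finset.mem_singleton, not_or] at ha
    set d : SL(2, F) := ⟨!![(a : F), 0; 0, ((a⁻¹ : Fˣ) : F)], by simp [Matrix.det_fin_two]⟩ with hd
    have hdv : (d : Matrix (Fin 2) (Fin 2) F) = !![(a : F), 0; 0, ((a⁻¹ : Fˣ) : F)] := rfl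
    have h1 := hB d (show (d : Matrix (Fin 2) (Fin 2) F) 1 0 = 0 from by simp [hdv]) (by
      show (((w⁻¹ * d * w) : SL(2, F)) : Matrix (Fin 2) (Fin 2) F) 1 0 = 0
      rw [Matrix.SpecialLinearGroup.coe_mul, Matrix.SpecialLinearGroup.coe_mul, hwinv, hdv, hwv]
      simp [Matrix.mul_apply, Fin.sum_univ_two])
    have h2 : ((d * upperHom F t : SL(2, F)) : Matrix (Fin 2) (Fin 2) F) 0 1 =
        ((upperHom F t * d : SL(2, F)) : Matrix (Fin 2) (Fin 2) F) 0 1 := by rw [h1]
    simp [upper_val, hdv, Matrix.mul_apply, Fin.sum_univ_two] at h2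
    have ha2 : (a : F) * a ≠ 1 := fun h => by
      rcases mul_self_eq_one_iff.1 h with h' | h'
      · exact ha.1 (Units.ext h')
      · exact ha.2 (Units.ext (by simpa using h'))
    have h3 : ((a : F) * a - 1) * t.toAdd = 0 := by
      field_simp at h2
      linear_combination h2
    rw [show t = 1 from Multiplicative.toAdd.injective
      ((mul_eq_zero.1 h3).resolve_left (sub_ne_zero.2 ha2)), map_one]

end linear

section unitary

open CfsgLib.RepBounds.Unit CfsgLib.RankOneP Matrix

variable {F : Type*} [Field F] [Fintype F] (C : ConjField F)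

/-- The stabiliser of the isotropic line through `vE`. -/
def lineE : Subgroup (suG C (Fin 2 ⊕ Fin 1)) where
  carrier := {g | ∃ a : Fˣ, app C g (vE C (Fin 1)) = (a : F) • vE C (Fin 1)}
  one_mem' := ⟨1, by rw [app_one, Units.val_one, one_smul]⟩
  mul_mem' := by
    rintro g h ⟨a, ha⟩ ⟨b, hb⟩
    exact ⟨b * a, by rw [app_mul, hb, app_smul, ha, smul_smul, Units.val_mul]⟩
  inv_mem' := by
    rintro g ⟨a, ha⟩
    refine ⟨a⁻¹, ?_⟩
    conv_rhs => rw [← app_inv_app C g (vE C (Fin 1)), ha, app_smul, smul_smul, Units.inv_mul, one_smul]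

theorem isPGroup_stabE (p : ℕ) [Fact p.Prime] [CharP F p] : IsPGroup p (stabE C) := by
  intro u
  obtain ⟨w, c, hc, hu⟩ := exists_uniEl C u.2
  refine ⟨2, Subtype.ext ?_⟩
  rw [SubmonoidClass.coe_pow, OneMemClass.coe_one, hu]
  refine Subtype.ext (Subtype.ext ?_)
  rw [SubmonoidClass.coe_pow, Matrix.SpecialLinearGroup.coe_pow]
  set M := (uniEl C w c hc).1.1
  have h3 : (M - 1) ^ 3 = 0 := by
    refine Matrix.ext_iff_mulVec.2 fun x => ?_
    have hN : ∀ y, (M - 1) *ᵥ y = app C (uniEl C w c hc) y - y := fun y => by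
      rw [Matrix.sub_mulVec, Matrix.one_mulVec]; rfl
    rw [pow_succ, pow_two, ← Matrix.mulVec_mulVec, ← Matrix.mulVec_mulVec, hN, hN, hN,
      Matrix.zero_mulVec]
    simp only [app_uniEl, herm_add_left, herm_sub_left, herm_smul_left, herm_vE_vE, herm_inW_vE,
      herm_vE_inW, herm_inW]
    module
  have h1 : (M - 1) ^ p ^ 2 = M ^ p ^ 2 - 1 ^ p ^ 2 :=
    sub_pow_char_pow_of_commute p 2 (Commute.one_right M)
  have h4 : 3 ≤ p ^ 2 :=
    le_trans (by norm_num) (Nat.pow_le_pow_left (Fact.out : p.Prime).two_le 2)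
  rw [pow_eq_zero_of_le h4 h3, one_pow] at h1
  exact sub_eq_zero.1 h1.symm

/-- `PSU₃(q)`, `q ≥ 3`. -/
theorem sylowRigid_suG_three {p : ℕ} [Fact p.Prime] [CharP F p] (hq : 3 ≤ C.q) {G : Type*} [Group G]
    [Finite G] [IsSimpleGroup G] (hloc : LocalCharP p G) (f : suG C (Fin 2 ⊕ Fin 1) →* G)
    (hf : Function.Surjective f) (hker : f.ker ≤ Subgroup.center _) : SylowRigid p G := by
  classical
  set e := vE C (Fin 1) with he
  set v := vF C (Fin 1) with hv
  have hne : e ≠ 0 := fun h => by
    have := congrFun h (Sum.inl 0)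
    simp [he, vE] at this
  obtain ⟨t0, -, ht0⟩ := exists_to_vE C (x := v) (herm_vF_vF C) (fun h => by
    have := herm_vF_vE C (κ := Fin 1)
    rw [← hv, h, herm_zero_left] at this
    exact zero_ne_one this)
  set w := t0⁻¹ with hwdef
  have hwe : app C w e = v := by rw [hwdef, he, ← ht0, app_inv_app]
  have hwv : app C w⁻¹ v = e := by rw [← hwe, app_inv_app]
  -- the elements of `stabE` fix the line through `vF` only when trivial
  have hline : ∀ u ∈ stabE C, ∀ a : F, app C u v = a • v → u = 1 := by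
    intro u hu a hua
    obtain ⟨x, c, hc, rfl⟩ := exists_uniEl C hu
    have h1 := hua
    rw [hv, app_uniEl_vF] at h1
    have ha : a = 1 := by
      have := congrArg (fun z => herm C z (vE C (Fin 1))) h1
      simp only [herm_add_left, herm_smul_left, herm_vF_vE, herm_inW_vE, herm_vE_vE, mul_zero,
        add_zero, mul_one] at this
      exact this.symm
    refine stabE_ext C hu (stabE C).one_mem ?_
    rw [app_one, ← hv, hua, ha, one_smul]
  refine sylowRigid_of_rankOne hloc f hf (lineE C) (stabE C) w (fun z hz => ?_) (fun g hg => ?_)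
    (isPGroup_stabE C p) (fun h => ?_) ?_ (fun g hg => ?_) (fun u hu hB => ?_) (fun u hu hB => ?_)
  · have h1 := fixed_stabE C (x := app C z e) fun u hu => by
      rw [← app_mul, Subgroup.mem_center_iff.1 (hker hz) u, app_mul, he,
        show app C u (vE C (Fin 1)) = vE C (Fin 1) from hu]
    have h2 : herm C (app C z e) (vF C (Fin 1)) ≠ 0 := fun h0 => hne (by
      rw [h0, zero_smul] at h1
      rw [← app_inv_app C z e, h1]
      exact Matrix.mulVec_zero _)
    exact ⟨Units.mk0 _ h2, h1⟩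
  · obtain ⟨a, ha⟩ := hg
    refine Subgroup.mem_normalizer_fintype fun u hu => ?_
    show app C (g * u * g⁻¹) (vE C (Fin 1)) = vE C (Fin 1)
    have hinv : app C g⁻¹ (vE C (Fin 1)) = ((a⁻¹ : Fˣ) : F) • vE C (Fin 1) := by
      conv_rhs => rw [← app_inv_app C g (vE C (Fin 1)), ha, app_smul, smul_smul, Units.inv_mul,
        one_smul]
    rw [app_mul, app_mul, hinv, app_smul, show app C u (vE C (Fin 1)) = vE C (Fin 1) from hu,
      app_smul, ha, smul_smul, Units.inv_mul, one_smul]
  · obtain ⟨d, hd, hd0⟩ := C.exists_skew_ne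
    set u := uniEl C (0 : Fin 1 → F) d (skew_valid C hd) with hu
    have h1 : f u = 1 :=
      (Subgroup.eq_bot_iff_forall _).1 h _ ⟨u, uniEl_mem C 0 d (skew_valid C hd), rfl⟩
    have h2 : app C u v = v := by
      conv_lhs => rw [← hwe, ← app_mul, ← Subgroup.mem_center_iff.1 (hker h1) w, app_mul, hu, he,
        app_uniEl_vE, ← he, hwe]
    rw [hu, hv, app_uniEl_vF, inW_zero, add_zero, add_eq_left, smul_eq_zero] at h2
    exact h2.elim hd0 hne
  · rintro ⟨a, ha⟩
    rw [← he, hwe] at ha
    have h1 := congrArg (fun z => herm C z (vE C (Fin 1))) ha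
    simp [hv, he, herm_smul_left, herm_vF_vE, herm_vE_vE] at h1
  · set y := app C g e with hy
    have hyy : herm C y y = 0 := by rw [hy, herm_app, he, herm_vE_vE]
    have hyd := decomp C y
    have hye : herm C y e ≠ 0 := by
      intro h0
      apply hg
      rw [← he, h0, zero_smul, add_zero] at hyd
      have hw0 : y ∘ Sum.inr = 0 := by
        rw [hyd] at hyy
        simp only [herm_add_left, herm_add_right, herm_smul_left, herm_smul_right, he, herm_vE_vE,
          herm_vE_inW, herm_inW_vE, herm_inW, mul_zero, add_zero, zero_add] at hyy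
        funext i
        rw [Fin.fin_one_eq_zero i]
        simpa [herm] using hyy
      rw [hw0, inW_zero, add_zero] at hyd
      have hne0 : herm C y (vF C (Fin 1)) ≠ 0 := fun h => hne (by
        rw [h, zero_smul] at hyd
        rw [← app_inv_app C g e, ← hy, hyd]
        exact Matrix.mulVec_zero _)
      exact ⟨Units.mk0 _ hne0, hyd⟩
    set β := herm C y e with hβ
    set y' := β⁻¹ • y with hy'
    set x := y' ∘ Sum.inr
    set c := herm C y' (vF C (Fin 1))
    have hd : y' = c • e + vF C (Fin 1) + inW x := by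
      conv_lhs => rw [decomp C y']
      rw [show herm C y' (vE C (Fin 1)) = 1 by
        rw [hy', herm_smul_left, ← he, ← hβ, inv_mul_cancel₀ hye], one_smul]
    have hc : c + C.σ c + herm C x x = 0 := by
      have h0 : herm C y' y' = 0 := by rw [hy', herm_smul_left, herm_smul_right, hyy]; simp
      rw [hd] at h0
      simp only [he, herm_add_left, herm_add_right, herm_smul_left, herm_smul_right, herm_vE_vE,
        herm_vE_vF, herm_vF_vE, herm_vF_vF, herm_vE_inW, herm_vF_inW, herm_inW_vE, herm_inW_vF,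
        herm_inW] at h0
      linear_combination h0
    refine ⟨uniEl C x c hc, uniEl_mem C x c hc, Units.mk0 β hye, ?_⟩
    have huw : app C (uniEl C x c hc * w) e = y' := by
      rw [app_mul, hwe, hv, app_uniEl_vF, hd, ← he]; abel
    rw [Units.val_mk0, ← he, app_mul, ← hy, show y = β • y' by rw [hy', smul_inv_smul₀ hye],
      app_smul, ← huw, app_inv_app]
  · obtain ⟨a, ha⟩ := hB
    refine hline u hu a ?_
    rw [← he, app_mul, app_mul, hwe] at ha
    have h1 := congrArg (app C w) ha
    rwa [app_app_inv, app_smul, hwe] at h1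
  · obtain ⟨x, c, hc, rfl⟩ := exists_uniEl C hu
    have key : ∀ s : Fˣ, (s : F) * c = (C.σ (s : F))⁻¹ * c ∧
        ∀ i, (C.σ (s : F) / s) * x i = (C.σ (s : F))⁻¹ * x i := by
      intro s
      set h := torEl C (0 : Fin 1) s with hh
      have hhv : app C h v = (C.σ (s : F))⁻¹ • v := by
        show torMat C 0 _ *ᵥ v = _
        rw [torMat_mulVec, hv, herm_vF_vF, herm_vF_vE, herm_vF_inW]
        simp only [mul_zero, zero_smul, add_zero, mul_one, sub_smul, one_smul]
        abel
      have hhw : app C h (inW x) = inW ((C.σ (s : F) / s) • x) := by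
        show torMat C 0 _ *ᵥ inW x = _
        rw [torMat_mulVec, herm_inW_vF, herm_inW_vE]
        funext i
        rcases i with i | i
        · simp [inW]
        · simp [inW, Fin.fin_one_eq_zero i, herm, Fintype.sum_sum_type]
          ring
      have h1 := hB h ⟨s, app_torEl_vE C 0 s⟩ (by
        refine ⟨Units.mk0 (C.σ (s : F))⁻¹
          (inv_ne_zero ((map_ne_zero C.σ).2 s.ne_zero)), ?_⟩
        rw [← he, app_mul, app_mul, hwe, hhv, app_smul, hwv, Units.val_mk0])
      have h2 := congrArg (fun g => app C g v) h1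
      simp only [app_mul] at h2
      rw [hhv, app_smul, hv, app_uniEl_vF, app_add, app_add, app_smul, ← hv, hhv, hhw,
        app_torEl_vE, smul_add, smul_add, smul_smul, smul_smul] at h2
      refine ⟨?_, fun i => ?_⟩
      · have := congrArg (fun z => herm C z (vF C (Fin 1))) h2
        simp [herm_add_left, herm_smul_left, hv, herm_vF_vF, herm_inW_vF, herm_vE_vF, -mul_eq_mul_right_iff] at this ⊢
        linear_combination this
      · have := congrFun h2 (Sum.inr i)
        simp [hv, inW, vE, vF, -mul_eq_mul_right_iff] at this ⊢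
        linear_combination this
    have f0 : ∀ a b y : F, a ≠ b → a * y = b * y → y = 0 := fun a b y hab e' =>
      (mul_eq_zero.1 (show (a - b) * y = 0 by linear_combination e')).resolve_left
        (sub_ne_zero.2 hab)
    have hc0 : c = 0 := by
      obtain ⟨g, hg⟩ := IsCyclic.exists_generator (α := Fˣ)
      refine f0 _ _ _ (fun h => ?_) (key g).1
      have hσ : C.σ (g : F) ≠ 0 := (map_ne_zero C.σ).2 g.ne_zero
      have h1 : g ^ (C.q + 1) = 1 := by
        apply Units.ext
        rw [Units.val_pow_eq_pow_val, pow_succ', ← C.pow, Units.val_one]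
        nth_rewrite 1 [h]
        exact inv_mul_cancel₀ hσ
      have h2 := orderOf_dvd_of_pow_eq_one h1
      rw [orderOf_eq_card_of_forall_mem_zpowers hg, Nat.card_units, Nat.card_eq_fintype_card,
        C.card] at h2
      have h3 := Nat.le_of_dvd (by omega) h2
      have : 3 * C.q ≤ C.q ^ 2 := by nlinarith
      omega
    have hx0 : x = 0 := by
      obtain ⟨a, ha⟩ := exists_pow_ne C hq
      funext i
      refine f0 _ _ _ (fun h => ha ?_) ((key a).2 i)
      have hσ : C.σ (a : F) ≠ 0 := (map_ne_zero C.σ).2 a.ne_zero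
      have ha0 : (a : F) ≠ 0 := a.ne_zero
      field_simp at h
      linear_combination h
    subst hc0 hx0
    exact uniEl_zero C

/-- `PSU₃(q)`, `q ≥ 3`. -/
theorem sylowRigid_PSU_three {p : ℕ} [Fact p.Prime] [CharP F p] {q : ℕ}
    (hF : Fintype.card F = q ^ 2) (hq : 3 ≤ q) {G : Type*} [Group G] [Finite G] [IsSimpleGroup G]
    (hloc : LocalCharP p G) (e : G ≃* Cfsg.PSU 3 F q) : SylowRigid p G := by
  obtain ⟨C, rfl⟩ := exists_conjField (F := F) q hF
  have hinv : ∀ {ι κ : Type} [Fintype ι] [DecidableEq ι] [Fintype κ] [DecidableEq κ] (r : ι ≃ κ)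
      (g : suG C ι), reindexHom C r.symm (reindexHom C r g) = g := fun r g => suG_ext C fun x => by
    rw [app_reindexHom, app_reindexHom]
    simp [Function.comp_def]
  let r : Fin 2 ⊕ Fin 1 ≃ Fin 3 := finSumFinEquiv
  let E : suG C (Fin 2 ⊕ Fin 1) ≃* Cfsg.SU 3 F C.q :=
    ({ toFun := reindexHom C r
       invFun := reindexHom C r.symm
       left_inv := hinv r
       right_inv := fun g => by simpa using hinv r.symm g
       map_mul' := map_mul _ } : suG C (Fin 2 ⊕ Fin 1) ≃* suG C (Fin 3)).trans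
      (MulEquiv.subgroupCongr (suG_fin_eq C (n := 3)))
  refine sylowRigid_suG_three C hq hloc
    (e.symm.toMonoidHom.comp ((QuotientGroup.mk' (Subgroup.center (Cfsg.SU 3 F C.q))).comp
      E.toMonoidHom))
    (e.symm.surjective.comp ((QuotientGroup.mk'_surjective _).comp E.surjective)) fun z hz => ?_
  have h1 : E z ∈ Subgroup.center (Cfsg.SU 3 F C.q) :=
    (QuotientGroup.eq_one_iff _).1
      (e.symm.injective ((MonoidHom.mem_ker.1 hz).trans (map_one _).symm))
  exact Subgroup.mem_center_iff.2 fun g => E.injective (by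
    rw [map_mul, map_mul]; exact Subgroup.mem_center_iff.1 h1 (E g))

end unitary

end CfsgLib.LieCharP
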