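import Cfsg.Agent.LieCharP.RigidExceptional
import Cfsg.Agent.LieCharP.TwistedReeF4

/-!
# `²F₄(q)` has no strongly `2`-embedded subgroup
-/

set_option autoImplicit false
set_option maxHeartbeats 1000000

namespace CfsgLib.ReeF4

open Cfsg.Lie CfsgLib CfsgLib.Chevalley CfsgLib.LieCharP
open scoped MatrixGroups

theorem gen_signs :
    (∀ r ∈ [rt 33, rt 24, rt 27, rt 25, rt 28, rt 30], half D ≤ (r : ℕ)) ∧
      ∀ r ∈ [rt 14, rt 23, rt 20, rt 22, rt 19, rt 17], (r : ℕ) < half D := by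
  decide +kernel

theorem commuting_slots : ∃ i k : Fin 12, kind i ≠ 1 ∧ kind k ≠ 1 ∧ ∃ d ∈ dList,
    ∀ a ∈ [la i, lb i], ∀ b ∈ [dp d (la k), dp d (lb k)],
      (b : ℕ) < half D ∧ b ≠ a ∧ b ≠ a.rev ∧ D.commTerms a b = [] := by
  decide +kernel

variable {K : Type*} [Field K] [Finite K] [CharP K 2] (T : Tw K)

/-- `²F₄(q)`. -/
theorem Tw.noSPE_G1 : NoSPE 2 T.G1 ∧ 2 ∣ Nat.card T.G1 := by
  classical
  have := Fintype.ofFinite K
  have : Fact (Nat.Prime 2) := ⟨Nat.prime_two⟩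
  have hg := hW.good
  have hP : IsPGroup 2 ((D.posUnipotent K).subgroupOf T.G1) :=
    (ChevParabolic.isPGroup_posUnipotent hW 2).comap_of_injective _ Subtype.coe_injective
  have hQ : IsPGroup 2 ((D.negUnipotent K).subgroupOf T.G1) :=
    (isPGroup_negUnipotent hW 2).comap_of_injective _ Subtype.coe_injective
  obtain ⟨i, k, hi, hk, d, -, hc⟩ := commuting_slots
  have hsi : extra i = [] := (slot_short i hi).1
  have hsk : extra k = [] := (slot_short k hk).1
  set x : T.G1 := ⟨T.lift i 1, T.U1_le_G1 (lift_one_mem_U1 T i)⟩ with hx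
  set y : T.G1 := ⟨nD K d * T.lift k 1 * (nD K d)⁻¹,
    mul_mem (mul_mem (T.nD_mem d) (T.U1_le_G1 (lift_one_mem_U1 T k))) (inv_mem (T.nD_mem d))⟩ with hy
  have hxP : x ∈ (D.posUnipotent K).subgroupOf T.G1 := (lift_one_mem_U1 T i).1
  have hye : nD K d * T.lift k 1 * (nD K d)⁻¹ =
      ReeF4.x K (dp d (la k)) (T.θ 1) * ReeF4.x K (dp d (lb k)) 1 := by
    rw [Tw.lift, hsk]
    simp only [List.map_nil, List.prod_nil, mul_one]
    rw [show ∀ n a b : GL D.Idx K, n * (a * b) * n⁻¹ = (n * a * n⁻¹) * (n * b * n⁻¹) from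
      fun n a b => by group, mon_nD d, mon_nD d]
    rfl
  have hyQ : y ∈ (D.negUnipotent K).subgroupOf T.G1 := by
    show nD K d * T.lift k 1 * (nD K d)⁻¹ ∈ D.negUnipotent K
    rw [hye]
    exact mul_mem (X_mem_neg hg (hc (la i) (by simp) _ (by simp)).1 _)
      (X_mem_neg hg (hc (la i) (by simp) _ (by simp)).1 _)
  have hx1 : x ≠ 1 := fun e => lift_one_ne T i (congrArg Subtype.val e)
  have hy1 : y ≠ 1 := fun e => lift_one_ne T k (conj_eq_one_iff.1 (congrArg Subtype.val e))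
  refine ⟨noSPE_of_two (MonoidHom.id _) Function.surjective_id hP hQ ?_ (x := x) (y := y)
    hxP hyQ hx1 hy1 ?_, ?_⟩
  · rw [eq_top_iff]
    rintro g -
    have hle : T.G1 ≤ ((D.posUnipotent K).subgroupOf T.G1 ⊔
        (D.negUnipotent K).subgroupOf T.G1).map T.G1.subtype := by
      have hpos : ∀ {z : GL D.Idx K}, z ∈ T.G1 → z ∈ D.posUnipotent K →
          z ∈ ((D.posUnipotent K).subgroupOf T.G1 ⊔
            (D.negUnipotent K).subgroupOf T.G1).map T.G1.subtype := fun hz hzp =>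
        ⟨⟨_, hz⟩, (le_sup_left : (D.posUnipotent K).subgroupOf T.G1 ≤ _) hzp, rfl⟩
      have hneg : ∀ {z : GL D.Idx K}, z ∈ T.G1 → z ∈ D.negUnipotent K →
          z ∈ ((D.posUnipotent K).subgroupOf T.G1 ⊔
            (D.negUnipotent K).subgroupOf T.G1).map T.G1.subtype := fun hz hzp =>
        ⟨⟨_, hz⟩, (le_sup_right : (D.negUnipotent K).subgroupOf T.G1 ≤ _) hzp, rfl⟩
      obtain ⟨gp, gn⟩ := gen_signs
      refine T.G1_le (fun b t => ?_) fun b t u => ?_
      · cases b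
        · refine hpos (T.pair_mem _ t) ?_
          rw [Tw.pairE, if_neg (by simp)]
          exact mul_mem (Chevalley.X_mem_pos hg (gp _ (by simp)) _)
            (Chevalley.X_mem_pos hg (gp _ (by simp)) _)
        · refine hneg (T.pair_mem _ t) ?_
          rw [Tw.pairE, if_pos rfl]
          exact mul_mem (X_mem_neg hg (gn _ (by simp)) _) (X_mem_neg hg (gn _ (by simp)) _)
      · cases b
        · refine hpos (T.cls_mem _ t u) ?_
          rw [Tw.clsE, if_neg (by simp), Tw.clsG]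
          exact mul_mem (mul_mem (mul_mem (Chevalley.X_mem_pos hg (gp _ (by simp)) _)
            (Chevalley.X_mem_pos hg (gp _ (by simp)) _)) (Chevalley.X_mem_pos hg (gp _ (by simp)) _))
            (Chevalley.X_mem_pos hg (gp _ (by simp)) _)
        · refine hneg (T.cls_mem _ t u) ?_
          rw [Tw.clsE, if_pos rfl, Tw.clsG]
          exact mul_mem (mul_mem (mul_mem (X_mem_neg hg (gn _ (by simp)) _)
            (X_mem_neg hg (gn _ (by simp)) _)) (X_mem_neg hg (gn _ (by simp)) _))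
            (X_mem_neg hg (gn _ (by simp)) _)
    obtain ⟨z, hz, hzg⟩ := hle g.2
    rwa [← Subtype.ext hzg]
  · refine Subtype.ext ?_
    show Commute (T.lift i 1) (nD K d * T.lift k 1 * (nD K d)⁻¹)
    rw [hye, Tw.lift, hsi]
    simp only [List.map_nil, List.prod_nil, mul_one]
    have hcc : ∀ a ∈ [la i, lb i], ∀ b ∈ [dp d (la k), dp d (lb k)], ∀ s t : K,
        Commute (ReeF4.x K a s) (ReeF4.x K b t) := fun a ha b hb s t =>
      commute_x (hc a ha b hb).2.2.2 (hc a ha b hb).2.1 (hc a ha b hb).2.2.1 s t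
    exact ((hcc _ (by simp) _ (by simp) _ _).mul_right (hcc _ (by simp) _ (by simp) _ _)).mul_left
      ((hcc _ (by simp) _ (by simp) _ _).mul_right (hcc _ (by simp) _ (by simp) _ _))
  · obtain ⟨j, hj⟩ := hP ⟨x, hxP⟩
    have hj' : x ^ 2 ^ j = 1 := congrArg Subtype.val hj
    obtain ⟨l, -, hl⟩ := (Nat.dvd_prime_pow Nat.prime_two).1 (orderOf_dvd_of_pow_eq_one hj')
    have hl0 : l ≠ 0 := fun e => hx1 (orderOf_eq_one_iff.1 (by rw [hl, e, pow_zero]))
    exact (hl ▸ dvd_pow_self 2 hl0).trans (orderOf_dvd_natCard x)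

end CfsgLib.ReeF4

namespace CfsgLib.LieCharP

open CfsgLib.ReeF4

/-- The family `²F₄`. -/
theorem sylowRigid_of_iso2F4 {G : Type*} [Group G] [Finite G] (h : Cfsg.Lie.Iso2F4 G) :
    SylowRigid 2 G := by
  obtain ⟨K, _, _, m, -, hK, ⟨e⟩⟩ := h
  have : Fact (Nat.Prime 2) := ⟨Nat.prime_two⟩
  have := charP_of_card hK
  exact (sylowRigid_of_noSPE (G := ↥(Cfsg.Lie.twistedF4 K (2 ^ m))) (localCharP_twistedF4 hK)
    (mkTw hK).noSPE_G1.2 (mkTw hK).noSPE_G1.1).congr e.symm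

end CfsgLib.LieCharP
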