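import Cfsg.Agent.LieCharP.Rigid
import Cfsg.Agent.LieCharP.RankOne
import Cfsg.Agent.Suzuki.Borel

/-!
# Suzuki and small Ree groups: no coprime automorphism fixes a Sylow subgroup pointwise
-/

set_option autoImplicit false

namespace CfsgLib.LieCharP

open Cfsg.Lie

open CfsgLib.Suzuki in
/-- The Suzuki groups. -/
theorem sylowRigid_of_isoSuzuki {G : Type*} [Group G] [Finite G] [IsSimpleGroup G]
    (h : Cfsg.Lie.IsoSuzuki G) : SylowRigid 2 G := by
  have : Fact (Nat.Prime 2) := ⟨Nat.prime_two⟩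
  have hloc := localCharP_of_isoSuzuki h
  obtain ⟨F, _, _, m, hm, hF, ⟨e⟩⟩ := h
  have hS : SzField F m := ⟨hm, hF⟩
  have := hS.charP
  let e' : Cfsg.Sz F m ≃* G := (lieSzEquiv hS).trans e.symm
  set w : Cfsg.Sz F m := (⟨weyl, weyl_mem hS⟩)⁻¹ with hw
  have hwinf : w • Cfsg.suzukiPointInfinity F = Cfsg.suzukiPointZero F := by
    rw [hw, inv_smul_eq_iff]
    exact (weyl_smul_zero).symm
  refine sylowRigid_of_rankOne hloc e'.toMonoidHom e'.surjective
    (MulAction.stabilizer (Cfsg.Sz F m) (Cfsg.suzukiPointInfinity F)) (uniSub hS) w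
    (by rw [(MonoidHom.ker_eq_bot_iff _).2 e'.injective]; exact bot_le) (fun g hg => ?_)
    (isPGroup_uniSub hS) ?_ (fun hwB => ?_) (fun g hg => ?_) (fun u hu hB => ?_) (fun u hu hB => ?_)
  · obtain ⟨a, b, μ, hg'⟩ := point_stabilizer hS g.2 hg
    have hgs : g = uniEl hS a b * torSz hS μ := Subtype.ext hg'
    rw [hgs]
    refine mul_mem (Subgroup.le_normalizer (uniEl_mem hS a b))
      (Subgroup.mem_normalizer_fintype fun v hv => ?_)
    obtain ⟨c, d, rfl⟩ := hv
    refine ⟨μ * c, μ * θ m (μ : F) * d, ?_⟩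
    rw [mul_inv_eq_iff_eq_mul]
    exact Subtype.ext (tor_conj_uni hS μ c d)
  · rw [Ne, Subgroup.map_eq_bot_iff_of_injective _ e'.injective, Subgroup.eq_bot_iff_forall]
    intro hall
    have h1 := (uniEl_zero hS).symm ▸ hall _ (uniEl_mem hS (1 : F) 0)
    exact one_ne_zero ((uniEl_eq_iff hS).1 h1).1
  · rw [MulAction.mem_stabilizer_iff, hwinf] at hwB
    exact infinity_ne_zero hwB.symm
  · have hmem : g • Cfsg.suzukiPointInfinity F ∈ Cfsg.suzukiOvoid F m :=
      (MulAction.mem_stabilizer_set.1 g.2 _).2 infinity_mem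
    rcases mem_suzukiOvoid_iff.1 hmem with h | ⟨a, b, h⟩
    · exact absurd h hg
    refine ⟨uniEl hS a b, uniEl_mem hS a b, ?_⟩
    rw [MulAction.mem_stabilizer_iff, mul_smul, inv_smul_eq_iff, mul_smul, hwinf, h]
    exact (uni_smul_zero hS a b).symm
  · obtain ⟨a, b, rfl⟩ := hu
    rw [MulAction.mem_stabilizer_iff, mul_smul, mul_smul, hwinf, inv_smul_eq_iff, hwinf] at hB
    have h1 : affPt m a b = affPt m (0 : F) 0 := by
      rw [affPt_zero, ← uni_smul_zero hS a b]
      exact hB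
    obtain ⟨rfl, rfl⟩ := affPt_injective h1
    exact uniEl_zero hS
  · obtain ⟨a, b, rfl⟩ := hu
    classical
    obtain ⟨μ, hμ⟩ : ∃ μ : Fˣ, μ ≠ 1 := by
      refine Fintype.exists_ne_of_one_lt_card ?_ 1
      rw [Fintype.card_units, hF]
      have : 2 ^ 3 ≤ 2 ^ (2 * m + 1) := Nat.pow_le_pow_right (by norm_num) (by omega)
      omega
    have h1 := hB (torSz hS μ) (tor_smul_infinity μ) (by
      rw [MulAction.mem_stabilizer_iff, mul_smul, mul_smul, hwinf, inv_smul_eq_iff, hwinf]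
      exact tor_smul_zero hS μ)
    have h2 : torSz hS μ * uniEl hS a b =
        uniEl hS ((μ : F) * a) ((μ : F) * θ m (μ : F) * b) * torSz hS μ :=
      Subtype.ext (tor_conj_uni hS μ a b)
    rw [h1] at h2
    obtain ⟨ea, eb⟩ := (uniEl_eq_iff hS).1 (mul_right_cancel h2)
    have hμ1 : (μ : F) ≠ 1 := fun e => hμ (Units.ext e)
    have hμ2 : (μ : F) * θ m (μ : F) ≠ 1 := by
      intro e
      have h3 : θ m (μ : F) = (μ : F)⁻¹ := eq_inv_of_mul_eq_one_right e
      have h4 := congrArg (θ m) h3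
      rw [θ_θ hS, θ_inv, h3, inv_inv, pow_two] at h4
      exact hμ1 (mul_left_cancel₀ μ.ne_zero (h4.trans (mul_one _).symm))
    have f : ∀ c x : F, c ≠ 1 → x = c * x → x = 0 := fun c x hc e =>
      (mul_eq_zero.1 (show (c - 1) * x = 0 by linear_combination -e)).resolve_left
        (sub_ne_zero.2 hc)
    rw [f _ _ hμ1 ea, f _ _ hμ2 eb]
    exact uniEl_zero hS

open CfsgLib.ReeG2 CfsgLib.ReeG2Tori in
/-- The small Ree groups. -/
theorem sylowRigid_of_isoRee {G : Type*} [Group G] [Finite G] [IsSimpleGroup G]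
    (h : Cfsg.Lie.IsoRee G) : SylowRigid 3 G := by
  have : Fact (Nat.Prime 3) := ⟨Nat.prime_three⟩
  have hloc := localCharP_of_isoRee h
  obtain ⟨K, _, _, m, hm, hK₀, ⟨e⟩⟩ := h
  have hK : Nat.card K = 3 ^ (2 * m + 1) := by rw [Nat.card_eq_fintype_card]; exact hK₀
  have : CharP K 3 := CfsgLib.ReeG2.charP_of_card hK
  let f : ↥(Tw K m) →* G := e.symm.toMonoidHom
  have hfi : Function.Injective f := e.symm.injective
  have hn : (n0 m : ↥(Tw K m))⁻¹ = n0 m := inv_eq_of_mul_eq_one_right (n0_mul_self hK)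
  refine sylowRigid_of_rankOne hloc f e.symm.surjective (Bor K m) (Usub K m) (n0 m)
    (by rw [(MonoidHom.ker_eq_bot_iff _).2 hfi]; exact bot_le) (fun b hb => ?_) ?_ ?_
    n0_not_mem (fun g hg => ?_) (fun u hu hB => ?_) (fun u hu hB => ?_)
  · exact Subgroup.mem_normalizer_fintype fun v hv => conj_mem_Usub hK hb hv
  · exact IsPGroup.of_card (n := (2 * m + 1) * 3) (by rw [natCard_Usub hK, ← pow_mul])
  · rw [Ne, Subgroup.map_eq_bot_iff_of_injective _ hfi, Subgroup.eq_bot_iff_forall]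
    intro hall
    exact one_ne_zero (congrArg Prod.fst
      (wU_eq_one_iff.1 (hall _ (wU_mem (m := m) ((1, 0, 0) : K × K × K)))))
  · rcases cases_Bor hK g with h | ⟨-, p, B, p', e'⟩
    · exact absurd h hg
    refine ⟨wU m p, wU_mem p, ?_⟩
    have h1 : hT hK B * n0 m = n0 m * (hT hK B)⁻¹ := by
      rw [← n0_conj_hT hK B]
      calc hT hK B * n0 m = (n0 m * n0 m) * hT hK B * (n0 m)⁻¹ := by
            rw [n0_mul_self hK, one_mul, hn]
        _ = n0 m * (n0 m * hT hK B * (n0 m)⁻¹) := by group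
    have h2 : (wU m p * n0 m)⁻¹ * g = (hT hK B)⁻¹ * wU m p' := by
      rw [inv_mul_eq_iff_eq_mul, e', mul_assoc (wU m p), h1]
      group
    rw [h2]
    exact mul_mem (inv_mem (hT_mem hK B)) (Usub_le (wU_mem p'))
  · refine n0_conj_Usub hu ?_
    rwa [hn] at hB ⊢
  · obtain ⟨p, rfl⟩ := (mem_Usub_iff hK).1 hu
    classical
    obtain ⟨B, hB1⟩ : ∃ B : Kˣ, B ∉ ({1, -1} : Finset Kˣ) := by
      by_contra! hall
      have h1 : Fintype.card Kˣ ≤ ({1, -1} : Finset Kˣ).card :=
        Finset.card_le_card (fun x _ => hall x)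
      rw [Fintype.card_units, hK₀] at h1
      have : 3 ^ 3 ≤ 3 ^ (2 * m + 1) := Nat.pow_le_pow_right (by norm_num) (by omega)
      have := Finset.card_le_two (a := (1 : Kˣ)) (b := -1)
      omega
    simp only [Finset.mem_insert, Finset.mem_singleton, not_or] at hB1
    have h1 := hB (hT hK B) (hT_mem hK B) (by
      have h2 := n0_conj_hT hK B
      rw [hn] at h2 ⊢
      rw [h2]
      exact inv_mem (hT_mem hK B))
    rw [conj_of_not_pm hK hB1.1 hB1.2 (p := p) (by rw [h1, mul_inv_cancel_right]), wU_zero]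

end CfsgLib.LieCharP
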