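import Cfsg.Agent.LieCharP.RigidExceptional
import Cfsg.Agent.LieCharP.TwistedE6D4

/-!
# `³D₄(q)` and `²E₆(q)` have no strongly `p`-embedded subgroup
-/

set_option autoImplicit false

namespace CfsgLib.GraphTwist

open Cfsg.Lie CfsgLib CfsgLib.Chevalley CfsgLib.Twisted CfsgLib.LieCharP
open scoped MatrixGroups

variable {D : ChevalleyDatum}

/-- A fundamental orbit commuting with the negative of a fixed fundamental root. -/
def Setup.HasCommutingPair (τ : Setup D) : Prop :=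
  ∃ o o' : Fin τ.cfg.m, τ.osize (τ.spR o').rev = 1 ∧
    ∀ a ∈ τ.orb (τ.spR o), (τ.spR o').rev ≠ a ∧ (τ.spR o').rev ≠ a.rev ∧
      D.commTerms a (τ.spR o').rev = []

theorem hasCommutingPair_D4 : setupD4.HasCommutingPair := by
  unfold Setup.HasCommutingPair
  decide +kernel

theorem hasCommutingPair_E6 : setupE6.HasCommutingPair := by
  unfold Setup.HasCommutingPair
  decide +kernel

namespace FieldTwist

variable {τ : Setup D} {K : Type*} [Field K] (Φ : FieldTwist τ K)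

theorem noSPE_tG (hτ : τ.HasCommutingPair) [Finite K] (p : ℕ) [Fact p.Prime] [CharP K p] :
    NoSPE p ↥Φ.tG ∧ p ∣ Nat.card ↥Φ.tG := by
  classical
  have := Fintype.ofFinite K
  obtain ⟨o, o', hsize, hc⟩ := hτ
  have hg := τ.good.good
  have hP : IsPGroup p ((D.posUnipotent K).subgroupOf Φ.tG) :=
    (ChevParabolic.isPGroup_posUnipotent τ.good p).comap_of_injective _ Subtype.coe_injective
  have hQ : IsPGroup p ((D.negUnipotent K).subgroupOf Φ.tG) :=
    (isPGroup_negUnipotent τ.good p).comap_of_injective _ Subtype.coe_injective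
  have horb : ∀ (r : Root D) (t : K),
      (half D ≤ (r : ℕ) → Φ.oX r t ∈ D.posUnipotent K) ∧
        ((r : ℕ) < half D → Φ.oX r t ∈ D.negUnipotent K) := by
    refine fun r t => ⟨fun hr => ?_, fun hr => ?_⟩
    · refine rootGen_le hg (fun a ha u => Chevalley.X_mem_pos hg (τ.orb_pos hr ha) u)
        (Φ.oX_mem_rootGen r t)
    · refine rootGen_le hg (fun a ha u => X_mem_neg hg ?_ u) (Φ.oX_mem_rootGen r t)
      obtain ⟨j, rfl⟩ := τ.mem_orb_iff.1 ha
      have := τ.σR_pow_pos j r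
      omega
  have hneg : ((τ.spR o').rev : ℕ) < half D := by
    have := hg.two_half
    have := τ.spR_pos o'
    rw [Fin.val_rev]
    omega
  have hY : ∀ t, Φ.oX (τ.spR o').rev t = X hg (τ.spR o').rev t := fun t => by
    rw [oX, hsize]
    simp
  set x : Φ.tG := ⟨Φ.oX (τ.spR o) 1, Φ.oX_mem_tG o (Φ.adm_one _)⟩
  set y : Φ.tG := ⟨Φ.oX (τ.spR o').rev 1, Φ.oY_mem_tG o' (Φ.adm_one _)⟩
  have hxP : x ∈ (D.posUnipotent K).subgroupOf Φ.tG := (horb _ 1).1 (τ.spR_pos o)
  have hx1 : x ≠ 1 := fun e => one_ne_zero (α := K)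
    (Φ.oX_injective (τ.spR_pos o) ((congrArg Subtype.val e).trans (Φ.oX_zero _).symm))
  have hy1 : y ≠ 1 := fun e => one_ne_zero (α := K)
    (X_injective hg _ (((hY 1).symm.trans (congrArg Subtype.val e)).trans (X_zero hg _).symm))
  refine ⟨noSPE_of_two (MonoidHom.id _) Function.surjective_id hP hQ ?_ (x := x) (y := y)
    hxP ((horb _ 1).2 hneg) hx1 hy1 ?_, ?_⟩
  · rw [eq_top_iff]
    rintro g -
    have hle : Φ.tG ≤ ((D.posUnipotent K).subgroupOf Φ.tG ⊔
        (D.negUnipotent K).subgroupOf Φ.tG).map Φ.tG.subtype := by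
      refine (Subgroup.closure_le _).2 ?_
      rintro _ ⟨i, b, t, ht, rfl⟩
      refine ⟨⟨Φ.oX (sdR τ b i) t, Subgroup.subset_closure ⟨i, b, t, ht, rfl⟩⟩, ?_, rfl⟩
      cases b
      · exact (le_sup_left : (D.posUnipotent K).subgroupOf Φ.tG ≤ _) ((horb _ t).1 (τ.spR_pos i))
      · refine (le_sup_right : (D.negUnipotent K).subgroupOf Φ.tG ≤ _) ((horb _ t).2 ?_)
        show ((τ.spR i).rev : ℕ) < half D
        have := hg.two_half
        have := τ.spR_pos i
        rw [Fin.val_rev]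
        omega
    obtain ⟨z, hz, hzg⟩ := hle g.2
    rwa [← Subtype.ext hzg]
  · refine Subtype.ext ?_
    show Φ.oX (τ.spR o) 1 * Φ.oX (τ.spR o').rev 1 = Φ.oX (τ.spR o').rev 1 * Φ.oX (τ.spR o) 1
    rw [hY]
    refine Commute.eq (Commute.list_prod_left _ _ fun z hz => ?_)
    obtain ⟨j, -, rfl⟩ := List.mem_map.1 hz
    obtain ⟨a, ha, u, e⟩ := Φ.pow_X_orb (τ.spR o) 1 j
    rw [e]
    obtain ⟨h1, h2, h3⟩ := hc a ha
    have := X_comm τ.good.toGoodComm a _ h1 h2 u 1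
    rw [commRhs, h3] at this
    simpa [wordGL, Commute, SemiconjBy] using this.symm
  · obtain ⟨k, hk⟩ := hP ⟨x, hxP⟩
    have hk' : x ^ p ^ k = 1 := congrArg Subtype.val hk
    obtain ⟨i, -, hi⟩ := (Nat.dvd_prime_pow (Fact.out : p.Prime)).1 (orderOf_dvd_of_pow_eq_one hk')
    have hi0 : i ≠ 0 := fun e => hx1 (orderOf_eq_one_iff.1 (by rw [hi, e, pow_zero]))
    exact (hi ▸ dvd_pow_self p hi0).trans (orderOf_dvd_natCard x)

end FieldTwist

end CfsgLib.GraphTwist

namespace CfsgLib.LieCharP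

open Cfsg.Lie CfsgLib CfsgLib.Chevalley CfsgLib.GraphTwist

/-- The two families of graph twists. -/
theorem sylowRigid_of_twistedE6D4 {p : ℕ} [Fact p.Prime] {G : Type*} [Group G] [Finite G]
    (h : Cfsg.IsTwistedE6D4Char p G) : SylowRigid p G := by
  have hloc := localCharP_of_twistedE6D4 h
  obtain ⟨K, _, _, _, q, hq, ⟨hK, ⟨e⟩⟩ | ⟨hK, ⟨e⟩⟩⟩ := h
  · obtain ⟨Φ, hΦ, -⟩ := twistedE6_eq_tG hq hK
    have e' := e.trans (MulEquiv.subgroupCongr hΦ)
    obtain ⟨h1, h2⟩ := Φ.noSPE_tG hasCommutingPair_E6 p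
    exact (sylowRigid_of_noSPE (localCharP_congr e' hloc) h2 h1).congr e'.symm
  · obtain ⟨Φ, hΦ, -⟩ := twistedD4_eq_tG hq hK
    have e' := e.trans (MulEquiv.subgroupCongr hΦ)
    obtain ⟨h1, h2⟩ := Φ.noSPE_tG hasCommutingPair_D4 p
    exact (sylowRigid_of_noSPE (localCharP_congr e' hloc) h2 h1).congr e'.symm

end CfsgLib.LieCharP
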