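import Cfsg.Agent.LieCharP.RigidLinear
import Cfsg.Agent.LieCharP.Unitary

/-!
# `PSU_n(q)`, `n ≥ 4`: no strongly `p`-embedded subgroup
-/

set_option autoImplicit false

namespace CfsgLib.LieCharP

open Matrix CfsgLib.RepBounds.Unit

variable {F : Type*} [Field F] [Fintype F] (C : ConjField F) {ι : Type*} [Fintype ι] [DecidableEq ι]

/-- A space of dimension at least two has a nonzero isotropic vector. -/
theorem exists_isotropic_of_two_le (K : Submodule F (ι → F)) (hK : 2 ≤ Module.finrank F K) :
    ∃ x ∈ K, x ≠ 0 ∧ herm C x x = 0 := by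
  obtain ⟨x, hxK, hx0⟩ := (Submodule.ne_bot_iff K).1 fun h => by
    rw [h, finrank_bot] at hK; omega
  by_cases hxx : herm C x x = 0
  · exact ⟨x, hxK, hx0, hxx⟩
  let φ : K →ₗ[F] F :=
    { toFun := fun y => herm C (y : ι → F) x
      map_add' := fun a b => herm_add_left C _ _ _
      map_smul' := fun a b => herm_smul_left C _ _ _ }
  obtain ⟨y, hy, hy0⟩ := (Submodule.ne_bot_iff _).1 (show LinearMap.ker φ ≠ ⊥ from fun e => by
    have h1 := LinearMap.finrank_range_add_finrank_ker φ
    rw [e, finrank_bot, add_zero] at h1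
    have h2 : Module.finrank F (LinearMap.range φ) ≤ 1 :=
      (Submodule.finrank_le _).trans (by rw [Module.finrank_self])
    omega)
  have hyx : herm C (y : ι → F) x = 0 := hy
  have hxy : herm C x (y : ι → F) = 0 := by rw [← conj_herm C, hyx, map_zero]
  by_cases hyy : herm C (y : ι → F) y = 0
  · exact ⟨y, y.2, fun h => hy0 (Subtype.ext h), hyy⟩
  obtain ⟨t, ht⟩ := CfsgLib.Forms.exists_mul_involution_eq C.ne_id C.invol
    (c := -(herm C (y : ι → F) y) / herm C x x)
    (by rw [map_div₀, map_neg, herm_self_fixed, herm_self_fixed])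
  refine ⟨t • x + y, K.add_mem (K.smul_mem t hxK) y.2, fun h => hyy ?_, ?_⟩
  · have h1 := congrArg (fun z => herm C z (y : ι → F)) h
    simpa [herm_add_left, herm_smul_left, herm_zero_left, hxy] using h1
  · rw [herm_add_left, herm_add_right, herm_add_right, herm_smul_left, herm_smul_left,
      herm_smul_right, herm_smul_right, hxy, hyx, ← mul_assoc, ht, mul_zero, mul_zero, add_zero,
      zero_add, div_mul_cancel₀ _ hxx]
    ring

/-- `SU_n(q)` modulo its centre, `n ≥ 4`. -/
theorem sylowRigid_suG_quotient (p : ℕ) [Fact p.Prime] [CharP F p] (hn : 4 ≤ Fintype.card ι)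
    (hcenter : ∀ g ∈ Subgroup.center (suG C ι), ∃ c : F, g.1.1 = c • (1 : Matrix ι ι F)) :
    SylowRigid p (suG C ι ⧸ Subgroup.center (suG C ι)) := by
  classical
  have : Nonempty ι := Fintype.card_pos_iff.1 (by omega)
  let S : Set (suG C ι) :=
    {g | ∃ v c, v ≠ 0 ∧ c ≠ 0 ∧ herm C v v = 0 ∧ c ∈ C.skew ∧ IsTransv C g v c}
  have hker : ∀ v w : ι → F, ∃ z, z ≠ 0 ∧ herm C z z = 0 ∧ herm C z v = 0 ∧ herm C z w = 0 := by
    intro v w
    let L : (ι → F) →ₗ[F] F × F :=
      { toFun := fun y => (herm C y v, herm C y w)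
        map_add' := fun a b => Prod.ext (herm_add_left C _ _ _) (herm_add_left C _ _ _)
        map_smul' := fun a b => Prod.ext (herm_smul_left C _ _ _) (herm_smul_left C _ _ _) }
    obtain ⟨z, hz, hz0, hzz⟩ := exists_isotropic_of_two_le C (LinearMap.ker L) (by
      have h1 := LinearMap.finrank_range_add_finrank_ker L
      rw [Module.finrank_pi] at h1
      have h2 : Module.finrank F (LinearMap.range L) ≤ 2 :=
        (Submodule.finrank_le _).trans (by rw [Module.finrank_prod, Module.finrank_self])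
      omega)
    exact ⟨z, hz0, hzz, congrArg Prod.fst (LinearMap.mem_ker.1 hz),
      congrArg Prod.snd (LinearMap.mem_ker.1 hz)⟩
  have hcomm : ∀ {g h : suG C ι} {v w : ι → F} {c d : F}, IsTransv C g v c → IsTransv C h w d →
      herm C v w = 0 → Commute g h := by
    intro g h v w c d hg hh hvw
    refine suG_ext C fun x => ?_
    have hwv : herm C w v = 0 := by rw [← conj_herm C, hvw, map_zero]
    rw [app_mul, app_mul, hg (app C h x), hh x, hh (app C g x), hg x]
    simp only [herm_add_left, herm_smul_left, hvw, hwv, mul_zero, add_zero]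
    abel
  refine sylowRigid_of_linked_center (localCharP_suG_quotient C p hcenter) (S := S) ?_ ?_ ?_ ?_
  · rw [eq_top_iff, ← transvs_eq_top C (ι := ι) (by rintro ⟨h, -⟩; omega)]
    refine (Subgroup.closure_le _).2 ?_
    rintro g ⟨v, c, hv, hc, hg⟩
    by_cases hvc : v = 0 ∨ c = 0
    · rw [show g = 1 from suG_ext C fun x => by
        rw [hg x, app_one]
        rcases hvc with rfl | rfl <;> simp]
      exact one_mem _
    · rw [not_or] at hvc
      exact Subgroup.subset_closure ⟨v, c, hvc.1, hvc.2, hv, hc, hg⟩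
  · obtain ⟨d, hd, hd0⟩ := C.exists_skew_ne
    obtain ⟨z, hz0, hzz, -⟩ := hker 0 0
    exact ⟨_, z, d, hz0, hd0, hzz, hd, isTransv_transvEl C z d hzz hd⟩
  · rintro g ⟨v, c, hv, hc, hvv, hcs, hg⟩
    refine ⟨fun hz => ?_, ?_⟩
    · obtain ⟨r, hr⟩ := hcenter g hz
      have hr' : ∀ a, a + (c * herm C a v) • v = r • a := fun a => by
        rw [← hg a]
        show g.1.1 *ᵥ a = _
        rw [hr, smul_mulVec, one_mulVec]
      have hr1 : r = 1 := smul_left_injective F hv (by
        show r • v = (1 : F) • v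
        rw [← hr' v, hvv, mul_zero, zero_smul, add_zero, one_smul])
      obtain ⟨a, ha⟩ := exists_herm_eq C hv 1
      have h1 := hr' a
      rw [hr1, one_smul, add_eq_left, ha, mul_one, smul_eq_zero] at h1
      exact h1.elim hc hv
    · have hk : ∀ (k : ℕ) x, app C (g ^ k) x = x + ((k : F) * (c * herm C x v)) • v := by
        intro k
        induction k with
        | zero => intro x; simp [app_one]
        | succ k ih =>
          intro x
          rw [pow_succ', app_mul, ih, hg]
          simp only [herm_add_left, herm_smul_left, hvv, mul_zero, add_zero, Nat.cast_succ]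
          module
      refine suG_ext C fun x => ?_
      rw [hk, app_one, CharP.cast_eq_zero, zero_mul, zero_smul, add_zero]
  · rintro g ⟨v, c, hv, hc, hvv, hcs, hg⟩ h ⟨w, d, hw, hd, hww, hds, hh⟩
    obtain ⟨e, he, he0⟩ := C.exists_skew_ne
    obtain ⟨z, hz0, hzz, hzv, hzw⟩ := hker v w
    have ht := isTransv_transvEl C z e hzz he
    refine (Relation.ReflTransGen.single ?_).tail (b := transvEl C z e hzz he) ?_
    · exact ⟨⟨z, e, hz0, he0, hzz, he, ht⟩, (hcomm ht hg hzv).symm⟩
    · exact ⟨⟨w, d, hw, hd, hww, hds, hh⟩, hcomm ht hh hzw⟩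

/-- `PSU_n(q)`, `n ≥ 4`. -/
theorem sylowRigid_PSU {n q : ℕ} (p : ℕ) [Fact p.Prime] [CharP F p]
    (hF : Fintype.card F = q ^ 2) (hn : 4 ≤ n) : SylowRigid p (Cfsg.PSU n F q) := by
  obtain ⟨C, hq⟩ := exists_conjField q hF
  subst hq
  suffices key : ∀ H : Subgroup (Matrix.SpecialLinearGroup (Fin n) F), H = suG C (Fin n) →
      SylowRigid p (H ⧸ Subgroup.center H) from key _ (suG_fin_eq C (n := n)).symm
  rintro H rfl
  refine sylowRigid_suG_quotient C p (by rw [Fintype.card_fin]; exact hn) fun g hg => ?_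
  have key : ∀ H : Subgroup (Matrix.SpecialLinearGroup (Fin n) F), H = Cfsg.SU n F C.q →
      ∀ g ∈ Subgroup.center H, ∃ c : F, g.1.1 = c • (1 : Matrix (Fin n) (Fin n) F) := by
    rintro H rfl g hg
    exact Forms4.exists_scalar_of_mem_center hF (by omega) hg
  exact key _ (suG_fin_eq C (n := n)) g hg

end CfsgLib.LieCharP
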