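import Cfsg.Agent.LieCharP.RigidExceptional
import Cfsg.Agent.LieCharP.RigidTwisted
import Cfsg.Agent.LieCharP.RigidReeF4
import Cfsg.Agent.LieCharP.RigidSzRee
import Cfsg.Agent.LieCharP.RigidRankOne
import Cfsg.Agent.LieCharP.RigidUnitary
import Cfsg.Agent.LieCharP.RigidOrth
import Cfsg.Agent.LieCharP.Main

/-!
# Simple groups of Lie type: a `p'`-automorphism fixing a Sylow `p`-subgroup pointwise is trivial
-/

set_option autoImplicit false

namespace CfsgLib.LieCharP

variable {p : ℕ} [Fact p.Prime] {G : Type*} [Group G] [Finite G]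

/-- All sixteen families. -/
theorem sylowRigid_of_isLieTypeChar [IsSimpleGroup G] (h : Cfsg.IsLieTypeChar p G) :
    SylowRigid p G := by
  have hloc := localCharP_of_isLieTypeChar h
  rcases h with h | h | h | h | h | h | h | h | ⟨rfl, h⟩ | ⟨rfl, h⟩ | ⟨rfl, h⟩
  · obtain ⟨F, _, _, _, n, hn, hn2, ⟨e⟩⟩ := h
    rcases eq_or_lt_of_le hn with rfl | hn3
    · exact sylowRigid_PSL_two (hn2 rfl) hloc e
    · exact (sylowRigid_PSL p hn3).congr e.symm
  · obtain ⟨F, _, _, _, m, hm, -, ⟨e⟩⟩ := h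
    exact (sylowRigid_PSp p hm).congr e.symm
  · obtain ⟨F, _, _, _, n, q, hF, hn, hne, ⟨e⟩⟩ := h
    rcases eq_or_lt_of_le hn with rfl | hn4
    · refine sylowRigid_PSU_three hF ?_ hloc e
      have := CfsgLib.Forms.two_le_q hF
      have : q ≠ 2 := fun h => hne ⟨rfl, h⟩
      omega
    · exact (sylowRigid_PSU p hF hn4).congr e.symm
  · obtain ⟨F, _, _, _, m, hm, hodd, ⟨e⟩⟩ := h
    exact (sylowRigid_POmegaOdd p hodd m (by omega)).congr e.symm
  · obtain ⟨F, _, _, _, m, hm, ⟨e⟩⟩ := h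
    exact (sylowRigid_POmegaPlus p m (by omega)).congr e.symm
  · obtain ⟨F, _, _, _, m, a, b, hm, hab, ⟨e⟩⟩ := h
    exact (sylowRigid_POmegaMinus p (m - 1) (by omega) a b hab).congr e.symm
  · exact sylowRigid_of_exceptional h
  · exact sylowRigid_of_twistedE6D4 h
  · exact sylowRigid_of_isoSuzuki h
  · exact sylowRigid_of_iso2F4 h
  · exact sylowRigid_of_isoRee h

end CfsgLib.LieCharP
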